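import Cfsg.Agent.Helper3.Sims.Calc3
import Cfsg.Agent.Helper2.SimsZ1
import Cfsg.Agent.Helper1.SimsSix

/-!
# Sims' theorem (dihedral form): from the group-theoretic hypotheses to the line, and the
conclusion of the window calculus (`sims_calc`)
-/

set_option autoImplicit false
set_option linter.unusedSectionVars false
set_option linter.unusedVariables false
open Pointwise

namespace Cfsg.Agent.Helper3.SimsW

variable {G : Type*} [Group G] [Finite G]

omit [Finite G] in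
theorem W_zero_one (P : Subgroup G) (γ : G) : W P γ 0 1 = P := by
  have := W_single P γ 0
  rw [zero_add, Ek_zero] at this
  exact this

omit [Finite G] in
theorem W_zero_two (P : Subgroup G) (γ : G) : W P γ 0 2 = P ⊓ MulAut.conj γ • P := by
  have h := W_inf P γ (i := 0) (j := 1) (i' := 1) (j' := 2) (by norm_num) (by norm_num)
    (by norm_num)
  rw [W_zero_one] at h
  have h2 := W_single P γ 1
  rw [show (1 : ℤ) + 1 = 2 by norm_num] at h2
  rw [h2] at h
  rw [← h]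
  unfold Ek
  simp

/-- PIECES 3+4 (chain + commutator calculus). -/
theorem sims_calc (H P Q : Subgroup G) (γ r : G) (hrH : r ∈ H) (hP2 : IsPGroup 2 P) (hQP : Q ≤ P)
    (hcard : Nat.card P = 2 * Nat.card Q) (hQne : Q ≠ ⊥)
    (hQH : ∀ h ∈ H, MulAut.conj h • Q = Q)
    (hE1 : MulAut.conj γ • P = MulAut.conj r • P) (hgen : P ⊔ MulAut.conj r • P = H)
    (hinf : P ⊓ MulAut.conj r • P = Q)
    (hNS : ∀ N : Subgroup G, N ≤ P → (∀ h ∈ H, MulAut.conj h • N = N) →
      MulAut.conj γ • N = N → N = ⊥)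
    (hCF : ∀ N : Subgroup G, N ≤ MulAut.conj r • P → (∀ h ∈ H, MulAut.conj h • N = N) →
      (∀ h ∈ H, MulAut.conj (γ * h * γ⁻¹) • N = N) → N = ⊥) :
    ∃ u v : G, u ∈ P ∧ u ∉ Q ∧ u * u = 1 ∧ v ∈ MulAut.conj r • P ∧ v ∉ Q ∧ v * v = 1 ∧
      ((Nat.card P = 4 ∧ ∀ q ∈ Q, ∀ h ∈ H, h * q = q * h) ∨
       ((Nat.card P = 8 ∨ Nat.card P = 16) ∧ (∀ q ∈ Q, q * q = 1) ∧
        (∀ q ∈ Q, ∀ q' ∈ Q, q * q' = q' * q) ∧ (∃ q ∈ Q, u * q ≠ q * u) ∧
        (∀ q ∈ Q, (u * v) ^ 3 * q = q * (u * v) ^ 3) ∧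
        (∃ q ∈ Q, (u * v) * q ≠ q * (u * v)))) := by
  have : Fact (Nat.Prime 2) := ⟨Nat.prime_two⟩
  obtain ⟨t, ht⟩ := IsPGroup.iff_card.1 hP2
  have hgen' : P ⊔ MulAut.conj γ • P = H := by rw [hE1]; exact hgen
  have hinf' : P ⊓ MulAut.conj γ • P = Q := by rw [hE1]; exact hinf
  have hsup : ∀ N : Subgroup G, (∀ h ∈ P, MulAut.conj h • N = N) →
      (∀ h ∈ MulAut.conj γ • P, MulAut.conj h • N = N) → ∀ h ∈ H, MulAut.conj h • N = N := by
    intro N h1 h2 h hh
    rw [← hgen'] at hh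
    have : P ⊔ MulAut.conj γ • P ≤ Nz N :=
      sup_le (fun x hx => mem_Nz.2 (h1 x hx)) (fun x hx => mem_Nz.2 (h2 x hx))
    exact mem_Nz.1 (this hh)
  have hbase : Nat.card (W P γ 0 1) = 2 * Nat.card (W P γ 0 2) := by
    rw [W_zero_one, W_zero_two, hinf']; exact hcard
  have hNS' : ∀ N : Subgroup G, N ≤ P → (∀ h ∈ P, MulAut.conj h • N = N) →
      (∀ h ∈ MulAut.conj γ • P, MulAut.conj h • N = N) → MulAut.conj γ • N = N → N = ⊥ :=
    fun N hN h1 h2 h3 => hNS N hN (hsup N h1 h2) h3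
  have hW := card_W_eq P γ hbase hNS' t (by rw [W_zero_one]; exact ht)
  have hQcard : 2 ≤ Nat.card Q := by
    have := (Subgroup.one_lt_card_iff_ne_bot (H := Q)).2 hQne
    omega
  have ht2 : 2 ≤ t := by
    by_contra hcon
    have h4 : 4 ≤ 2 ^ t := by rw [← ht, hcard]; omega
    have h5 : 2 ^ t ≤ 2 := by
      calc 2 ^ t ≤ 2 ^ 1 := Nat.pow_le_pow_right (by norm_num) (by omega)
        _ = 2 := by norm_num
    omega
  have hLcard : ∀ (i : ℤ) (d : ℕ), 1 ≤ d → d ≤ t + 1 →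
      Nat.card (W P γ i (i + d)) = 2 ^ (t + 1 - d) := by
    intro i d hd1 hd2
    have h := card_W_shift P γ i 0 (d : ℤ)
    rw [zero_add, add_comm (d : ℤ) i] at h
    rw [h]
    exact (hW d hd1 hd2).1
  have hWt : Nat.card (W P γ 0 (t : ℤ)) = 2 := by
    have h := (hW t (by omega) (by omega)).1
    rw [h]
    have : t + 1 - t = 1 := by omega
    rw [this]; norm_num
  obtain ⟨z, hzW, hz1⟩ : ∃ z ∈ W P γ 0 (t : ℤ), z ≠ 1 := by
    rcases Subgroup.bot_or_exists_ne_one (W P γ 0 (t : ℤ)) with h | h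
    · exfalso
      rw [h] at hWt
      simp at hWt
    · exact h
  have L : Line P γ t z := ⟨hLcard, by omega, hzW, hz1⟩
  have hYP : Y P γ t 0 ((t : ℤ) - 1) = P := Y_zero_eq P γ t
  have hYE : Y P γ t 1 (t : ℤ) = MulAut.conj γ • P := Y_one_eq P γ t
  have hYQ : Y P γ t 1 ((t : ℤ) - 1) = Q := by rw [Y_Q_eq, hinf']
  have hYH : Y P γ t 0 ((t : ℤ) - 1) ⊔ Y P γ t 1 (t : ℤ) = H := by rw [hYP, hYE, hgen']
  have hx0P : X γ t z 0 ∈ P := by rw [← hYP]; exact L.X_mem' le_rfl (by omega)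
  have hxtE : X γ t z t ∈ MulAut.conj γ • P := by
    rw [← hYE]; exact L.X_mem' (by omega) le_rfl
  have hPH : P ≤ H := by rw [← hgen']; exact le_sup_left
  have hEH : MulAut.conj γ • P ≤ H := by rw [← hgen']; exact le_sup_right
  have hx0Q : X γ t z 0 ∉ Q := by
    rw [← hYQ]
    have := L.X_left_notMem (a := 0) (b := (t : ℤ) - 1) (by omega)
    rw [zero_add] at this
    exact this
  have hxtQ : X γ t z t ∉ Q := by
    rw [← hYQ]
    exact L.X_right_notMem (a := 1) (b := (t : ℤ)) (by omega)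
  have hQ0 : MulAut.conj (X γ t z 0) • Y P γ t 1 ((t : ℤ) - 1) = Y P γ t 1 ((t : ℤ) - 1) := by
    rw [hYQ]; exact hQH _ (hPH hx0P)
  have hQt : MulAut.conj (X γ t z t) • Y P γ t 1 ((t : ℤ) - 1) = Y P γ t 1 ((t : ℤ) - 1) := by
    rw [hYQ]; exact hQH _ (hEH hxtE)
  have hCF' : ∀ N : Subgroup G, N ≤ Y P γ t 1 t →
      (∀ k : ℤ, 0 ≤ k → k ≤ (t : ℤ) + 1 → MulAut.conj (X γ t z k) • N = N) → N = ⊥ := by
    intro N hN hk
    have h1 : ∀ u ∈ Y P γ t 0 ((t : ℤ) - 1), MulAut.conj u • N = N :=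
      L.normalizes_window (by omega) (fun k hk1 hk2 => hk k hk1 (by omega))
    have h2 : ∀ u ∈ Y P γ t 1 (t : ℤ), MulAut.conj u • N = N :=
      L.normalizes_window (by omega) (fun k hk1 hk2 => hk k (by omega) (by omega))
    have h3 : ∀ u ∈ Y P γ t 2 ((t : ℤ) + 1), MulAut.conj u • N = N :=
      L.normalizes_window (by omega) (fun k hk1 hk2 => hk k (by omega) hk2)
    apply hCF N
    · rw [← hE1, ← hYE]; exact hN
    · intro h hh
      rw [← hYH] at hh
      have : Y P γ t 0 ((t : ℤ) - 1) ⊔ Y P γ t 1 (t : ℤ) ≤ Nz N :=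
        sup_le (fun x hx => mem_Nz.2 (h1 x hx)) (fun x hx => mem_Nz.2 (h2 x hx))
      exact mem_Nz.1 (this hh)
    · intro h hh
      have hmem : γ * h * γ⁻¹ ∈
          MulAut.conj γ • (Y P γ t 0 ((t : ℤ) - 1) ⊔ Y P γ t 1 (t : ℤ)) := by
        rw [mem_conj_smul, hYH]
        have : γ⁻¹ * (γ * h * γ⁻¹) * γ = h := by group
        rw [this]; exact hh
      rw [Subgroup.smul_sup, smul_Y_one, smul_Y_one] at hmem
      have e1 : (t : ℤ) - 1 + 1 = t := by ring
      have e2 : (0 : ℤ) + 1 = 1 := by norm_num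
      have e3 : (1 : ℤ) + 1 = 2 := by norm_num
      rw [e1, e2, e3] at hmem
      have : Y P γ t 1 (t : ℤ) ⊔ Y P γ t 2 ((t : ℤ) + 1) ≤ Nz N :=
        sup_le (fun x hx => mem_Nz.2 (h2 x hx)) (fun x hx => mem_Nz.2 (h3 x hx))
      exact mem_Nz.1 (this hmem)
  obtain ⟨l, hlt, hC, hN⟩ := exists_lam γ t z
  refine ⟨X γ t z 0, X γ t z t, hx0P, hx0Q, L.X_sq 0, by rw [← hE1]; exact hxtE, hxtQ,
    L.X_sq t, ?_⟩
  rcases eq_or_lt_of_le hlt with hl | hl
  · -- the abelian case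
    left
    have hC' : Comm γ t z t := by
      have := hC
      rwa [hl] at this
    obtain ⟨ht2', hcen⟩ := L.case_abelian ht2 hC' hCF'
    refine ⟨by rw [ht, ht2']; norm_num, ?_⟩
    intro q hq h hh
    rw [← hYQ] at hq
    have hq1 : ∀ w ∈ Y P γ t 0 ((t : ℤ) - 1), Commute q w :=
      L.commute_window (by omega) (fun k hk1 hk2 => hcen q hq k hk1 (by omega))
    have hq2 : ∀ w ∈ Y P γ t 1 (t : ℤ), Commute q w :=
      L.commute_window (by omega) (fun k hk1 hk2 => hcen q hq k (by omega) hk2)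
    have hle : Y P γ t 0 ((t : ℤ) - 1) ⊔ Y P γ t 1 (t : ℤ) ≤ Subgroup.centralizer {q} := by
      apply sup_le
      · intro w hw
        rw [Subgroup.mem_centralizer_iff]
        intro x hx
        rw [Set.mem_singleton_iff] at hx
        subst hx
        exact (hq1 w hw).eq
      · intro w hw
        rw [Subgroup.mem_centralizer_iff]
        intro x hx
        rw [Set.mem_singleton_iff] at hx
        subst hx
        exact (hq2 w hw).eq
    rw [← hYH] at hh
    have := hle hh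
    rw [Subgroup.mem_centralizer_iff] at this
    exact (this q rfl).symm
  · -- the nonabelian case
    right
    have hN' := hN hl
    have hl2 := L.two_le_l hl hN'
    have hZ : HZ1 P γ t z l := fun n hj w hw hc =>
      Cfsg.Agent.Helper2.SimsZ1.center_window L (by omega) hl hC hN' n hj w hw hc
    obtain ⟨hnum, hcloc⟩ := L.numerics hl hC hN' hZ hCF' hQ0 hQt
    rcases hnum with ⟨rfl, rfl⟩ | ⟨rfl, rfl⟩ | ⟨rfl, rfl⟩
    · -- `t = 3`
      have e2 : ((2 : ℕ) : ℤ) = 2 := by norm_num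
      have e3 : ((3 : ℕ) : ℤ) = 3 := by norm_num
      rw [e2] at hN'
      obtain ⟨h1, h2, h3, h4, h5⟩ := case_three L hC hN'
      have hYQ3 : Y P γ 3 1 2 = Q := by
        have := hYQ
        rw [e3, show (3 : ℤ) - 1 = 2 by norm_num] at this
        exact this
      rw [hYQ3] at h1 h2 h3 h4 h5
      rw [e3]
      exact ⟨Or.inl (by rw [ht]; norm_num), h1, h2, h3, h4, h5⟩
    · -- `t = 4`
      have e3 : ((3 : ℕ) : ℤ) = 3 := by norm_num
      have e4 : ((4 : ℕ) : ℤ) = 4 := by norm_num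
      rw [e3] at hN'
      have hYQ4 : Y P γ 4 1 3 = Q := by
        have := hYQ
        rw [e4, show (4 : ℤ) - 1 = 3 by norm_num] at this
        exact this
      have hYP4 : Y P γ 4 0 3 = P := by
        have := hYP
        rw [e4, show (4 : ℤ) - 1 = 3 by norm_num] at this
        exact this
      have hYE4 : Y P γ 4 1 4 = MulAut.conj γ • P := by
        have := hYE
        rw [e4] at this
        exact this
      have hrH' : r ∈ Y P γ 4 0 3 ⊔ Y P γ 4 1 4 := by
        rw [hYP4, hYE4, hgen']; exact hrH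
      have hrP' : MulAut.conj r • Y P γ 4 0 3 = Y P γ 4 1 4 := by
        rw [hYP4, hYE4, hE1]
      have hrQ' : MulAut.conj r • Y P γ 4 1 3 = Y P γ 4 1 3 := by
        rw [hYQ4]; exact hQH r hrH
      obtain ⟨h1, h2, h3, h4, h5⟩ := case_four L hC hN' r hrH' hrP' hrQ'
      rw [hYQ4] at h1 h2 h3 h4 h5
      rw [e4]
      exact ⟨Or.inr (by rw [ht]; norm_num), h1, h2, h3, h4, h5⟩
    · -- `t = 6`
      exfalso
      have e4 : ((4 : ℕ) : ℤ) = 4 := by norm_num
      have e6 : ((6 : ℕ) : ℤ) = 6 := by norm_num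
      rw [e4] at hN' hcloc
      rw [e6, show (6 : ℤ) - 4 = 2 by norm_num, show 2 * (4 : ℤ) - 6 = 2 by norm_num] at hcloc
      refine Cfsg.Agent.Helper1.SimsSix.not_six L hC hN' hcloc ?_
      intro N hN hk
      apply hCF' N
      · rw [e6]; exact hN
      · intro k hk1 hk2
        exact hk k hk1 (by omega)

end Cfsg.Agent.Helper3.SimsW
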