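import Cfsg.Agent.Helper3.Sims.Gen

/-!
# Sims' theorem (dihedral form): base lemmas of the window calculus
-/

set_option autoImplicit false
set_option linter.unusedSectionVars false
open Pointwise

namespace Cfsg.Agent.Helper3.SimsW

variable {G : Type*} [Group G]

/-- `X 0` commutes with `X k` for all `k < ℓ` -/
def Comm (γ : G) (t : ℕ) (z : G) (ℓ : ℕ) : Prop :=
  ∀ k : ℕ, k < ℓ → Commute (X γ t z 0) (X γ t z k)

theorem comm_shift (γ : G) (t : ℕ) (z : G) (i j m : ℤ) :
    Commute (X γ t z (i + m)) (X γ t z (j + m)) ↔ Commute (X γ t z i) (X γ t z j) := by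
  rw [← X_shift γ t z i m, ← X_shift γ t z j m, Commute.conj_iff]

theorem comm_zero (γ : G) (t : ℕ) (z : G) : Comm γ t z 0 :=
  fun k hk => absurd hk (Nat.not_lt_zero k)

theorem exists_lam (γ : G) (t : ℕ) (z : G) :
    ∃ l : ℕ, l ≤ t ∧ Comm γ t z l ∧ (l < t → ¬ Commute (X γ t z 0) (X γ t z l)) := by
  classical
  have hspec : Comm γ t z (Nat.findGreatest (Comm γ t z) t) :=
    Nat.findGreatest_spec (P := Comm γ t z) (m := 0) (Nat.zero_le t) (comm_zero γ t z)
  refine ⟨Nat.findGreatest (Comm γ t z) t, Nat.findGreatest_le t, hspec, ?_⟩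
  intro hlt hc
  have h1 : Comm γ t z (Nat.findGreatest (Comm γ t z) t + 1) := by
    intro k hk
    by_cases hk' : k < Nat.findGreatest (Comm γ t z) t
    · exact hspec k hk'
    · have : k = Nat.findGreatest (Comm γ t z) t := by omega
      rw [this]; exact hc
  have := Nat.le_findGreatest (P := Comm γ t z) (show Nat.findGreatest (Comm γ t z) t + 1 ≤ t by omega) h1
  omega

theorem Comm.comm {γ : G} {t : ℕ} {z : G} {l : ℕ} (hC : Comm γ t z l) {i j : ℤ}
    (h1 : i - j < l) (h2 : j - i < l) : Commute (X γ t z i) (X γ t z j) := by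
  rcases le_total i j with hij | hij
  · have h := hC (j - i).toNat (by omega)
    have e : ((j - i).toNat : ℤ) = j - i := Int.toNat_of_nonneg (by omega)
    rw [e] at h
    have := (comm_shift γ t z 0 (j - i) i).2 h
    simpa using this
  · have h := hC (i - j).toNat (by omega)
    have e : ((i - j).toNat : ℤ) = i - j := Int.toNat_of_nonneg (by omega)
    rw [e] at h
    have := (comm_shift γ t z 0 (i - j) j).2 h
    simpa using this.symm

section line

variable [Finite G] {P : Subgroup G} {γ : G} {t : ℕ} {z : G}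

theorem Y_zero_eq (P : Subgroup G) (γ : G) (t : ℕ) : Y P γ t 0 ((t : ℤ) - 1) = P := by
  unfold Y
  have e1 : (t : ℤ) - 1 - t + 1 = 0 := by ring
  rw [e1, W_single, Ek_zero]

theorem Y_one_eq (P : Subgroup G) (γ : G) (t : ℕ) : Y P γ t 1 (t : ℤ) = MulAut.conj γ • P := by
  unfold Y
  have e1 : (t : ℤ) - t + 1 = 1 := by ring
  rw [e1, W_single]
  unfold Ek; simp

theorem Y_Q_eq (P : Subgroup G) (γ : G) (t : ℕ) :
    Y P γ t 1 ((t : ℤ) - 1) = P ⊓ MulAut.conj γ • P := by
  have h := Y_inf P γ t (a := 0) (b := (t : ℤ) - 1) (a' := 1) (b' := (t : ℤ)) (by omega) (by omega) (by omega)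
  rw [Y_zero_eq, Y_one_eq] at h
  exact h.symm

/-- membership in a conjugate: explicit form -/
theorem conj_mem_of_smul_eq {N : Subgroup G} {b x : G} (h : MulAut.conj b • N = N) (hx : x ∈ N) :
    b * x * b⁻¹ ∈ N := by
  rw [← h, mem_conj_smul]
  have : b⁻¹ * (b * x * b⁻¹) * b = x := by group
  rw [this]; exact hx

/-- location of the commutator of two involutions of the line -/
theorem Line.comm_loc (L : Line P γ t z) {i j : ℤ} (hij : i ≤ j) (hlen : j + 1 - i ≤ t) :
    X γ t z i * X γ t z j * X γ t z i * X γ t z j ∈ Y P γ t (i + 1) (j - 1) := by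
  rcases eq_or_lt_of_le hij with h | h
  · subst h
    rw [mul_assoc (X γ t z i * X γ t z i), L.X_sq, one_mul]
    exact Subgroup.one_mem _
  · have hXi : X γ t z i ∈ Y P γ t i j := L.X_mem' le_rfl hij
    have hXj : X γ t z j ∈ Y P γ t i j := L.X_mem' hij le_rfl
    have inv_i : (X γ t z i)⁻¹ = X γ t z i := inv_eq_of_mul_eq_one_left (L.X_sq i)
    have inv_j : (X γ t z j)⁻¹ = X γ t z j := inv_eq_of_mul_eq_one_left (L.X_sq j)
    have h1 : X γ t z i * X γ t z j * X γ t z i * X γ t z j ∈ Y P γ t i (j - 1) := by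
      have hn := conj_smul_eq_of_relIndex_two (Y_mono P γ t le_rfl (by omega))
        (L.relIndex_right hij hlen) hXj
      have := conj_mem_of_smul_eq hn (L.X_mem' (a := i) (b := j - 1) le_rfl (by omega))
      rw [inv_j] at this
      have e : X γ t z i * X γ t z j * X γ t z i * X γ t z j =
          X γ t z i * (X γ t z j * X γ t z i * X γ t z j) := by group
      rw [e]
      exact Subgroup.mul_mem _ (L.X_mem' le_rfl (by omega)) this
    have h2 : X γ t z i * X γ t z j * X γ t z i * X γ t z j ∈ Y P γ t (i + 1) j := by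
      have hn := conj_smul_eq_of_relIndex_two (Y_mono P γ t (by omega) le_rfl)
        (L.relIndex_left hij hlen) hXi
      have := conj_mem_of_smul_eq hn (L.X_mem' (a := i + 1) (b := j) (k := j) (by omega) le_rfl)
      rw [inv_i] at this
      exact Subgroup.mul_mem _ this (L.X_mem' (by omega) le_rfl)
    have h3 : X γ t z i * X γ t z j * X γ t z i * X γ t z j ∈
        Y P γ t i (j - 1) ⊓ Y P γ t (i + 1) j := ⟨h1, h2⟩
    rwa [Y_inf P γ t (by omega) (by omega) (by omega)] at h3

/-- an element commuting with the generators of a window commutes with the window -/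
theorem Line.commute_window (L : Line P γ t z) {a b : ℤ} (hlen : b + 1 - a ≤ t) {w : G}
    (hw : ∀ k, a ≤ k → k ≤ b → Commute w (X γ t z k)) : ∀ u ∈ Y P γ t a b, Commute w u :=
  L.Y_induction hlen (fun u => Commute w u) (Commute.one_right w)
    (fun _ _ hu hv => hu.mul_right hv) hw

/-- a subgroup normalized by the generators of a window is normalized by the window -/
theorem Line.normalizes_window (L : Line P γ t z) {a b : ℤ} (hlen : b + 1 - a ≤ t) {N : Subgroup G}
    (hN : ∀ k, a ≤ k → k ≤ b → MulAut.conj (X γ t z k) • N = N) :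
    ∀ u ∈ Y P γ t a b, MulAut.conj u • N = N :=
  L.Y_induction hlen (fun u => MulAut.conj u • N = N) (by simp)
    (fun u v hu hv => by rw [conj_mul_smul, hv, hu]) hN

/-- short windows are commutative -/
theorem Line.Y_commute (L : Line P γ t z) {l : ℕ} (hC : Comm γ t z l) {a b : ℤ}
    (hlen : b + 1 - a ≤ t) (hab : b - a < l) :
    ∀ u ∈ Y P γ t a b, ∀ v ∈ Y P γ t a b, Commute u v := by
  intro u hu v hv
  refine L.commute_window hlen ?_ v hv
  intro k hk1 hk2
  refine (L.commute_window hlen ?_ u hu).symm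
  intro k' hk1' hk2'
  exact hC.comm (by omega) (by omega)

/-- short windows have exponent two -/
theorem Line.Y_sq (L : Line P γ t z) {l : ℕ} (hC : Comm γ t z l) {a b : ℤ}
    (hlen : b + 1 - a ≤ t) (hab : b - a < l) : ∀ u ∈ Y P γ t a b, u * u = 1 := by
  have key : ∀ u ∈ Y P γ t a b, u ∈ Y P γ t a b ∧ u * u = 1 := by
    refine L.Y_induction hlen (fun u => u ∈ Y P γ t a b ∧ u * u = 1) ⟨Subgroup.one_mem _, by simp⟩ ?_ ?_
    · rintro u v ⟨hu, hu2⟩ ⟨hv, hv2⟩
      refine ⟨Subgroup.mul_mem _ hu hv, ?_⟩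
      have hc := L.Y_commute hC hlen hab u hu v hv
      calc u * v * (u * v) = u * (v * u) * v := by group
        _ = u * (u * v) * v := by rw [hc.eq]
        _ = (u * u) * (v * v) := by group
        _ = 1 := by rw [hu2, hv2, one_mul]
    · intro k hk1 hk2
      exact ⟨L.X_mem' hk1 hk2, L.X_sq k⟩
  intro u hu
  exact (key u hu).2

/-- a `γ`-invariant subset of a window of length `≤ t - 1` is trivial -/
theorem Line.inv_set_trivial (L : Line P γ t z) (S : Set G)
    (hinv : ∀ s ∈ S, ∃ s' ∈ S, s = γ * s' * γ⁻¹) {a b : ℤ} (hlen : b + 1 - a + 1 ≤ t)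
    (hS : ∀ s ∈ S, s ∈ Y P γ t a b) : ∀ s ∈ S, s = 1 := by
  obtain ⟨n, hn⟩ : ∃ n : ℕ, (n : ℤ) = max (b + 1 - a) 0 := ⟨(max (b + 1 - a) 0).toNat, by simp⟩
  induction n generalizing a with
  | zero =>
    intro s hs
    have := hS s hs
    rw [L.Y_eq_bot (by omega)] at this
    exact Subgroup.mem_bot.1 this
  | succ n ih =>
    have hab : a ≤ b := by push_cast at hn; omega
    apply ih (a := a + 1) (by omega) _ (by push_cast at hn; omega)
    intro s hs
    obtain ⟨s', hs', rfl⟩ := hinv s hs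
    have h1 : γ * s' * γ⁻¹ ∈ Y P γ t (a + 1) (b + 1) := by
      rw [← smul_Y_one, mem_conj_smul]
      have : γ⁻¹ * (γ * s' * γ⁻¹) * γ = s' := by group
      rw [this]; exact hS s' hs'
    have h2 : γ * s' * γ⁻¹ ∈ Y P γ t a b ⊓ Y P γ t (a + 1) (b + 1) := ⟨hS _ hs, h1⟩
    rwa [Y_inf P γ t (by omega) (by omega) (by omega)] at h2

end line

end Cfsg.Agent.Helper3.SimsW
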