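import Cfsg.Agent.Helper3.Sims.Calc0

/-!
# Sims' theorem (dihedral form): the inequalities `2λ ≥ t+1`, `3λ ≥ 2t`, `2λ ≤ t+2`
-/

set_option autoImplicit false
set_option linter.unusedSectionVars false
open Pointwise

namespace Cfsg.Agent.Helper3.SimsW

variable {G : Type*} [Group G]

/-- the statement of the centre-of-a-window lemma (PIECE Z1), as a hypothesis -/
def HZ1 (P : Subgroup G) (γ : G) (t : ℕ) (z : G) (l : ℕ) : Prop :=
  ∀ (n : ℕ), (l : ℤ) - 1 + n ≤ (t : ℤ) - 1 → ∀ w : G, w ∈ Y P γ t 0 ((l : ℤ) - 1 + n) →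
    (∀ k : ℤ, 0 ≤ k → k ≤ (l : ℤ) - 1 + n → Commute w (X γ t z k)) →
    w ∈ Y P γ t (n : ℤ) ((l : ℤ) - 1)

theorem conj_inv_smul_eq {u : G} {N : Subgroup G} (h : MulAut.conj u • N = N) :
    MulAut.conj u⁻¹ • N = N := by
  have := conj_zpow_smul_eq h (-1)
  simpa using this

theorem conj_smul_zpowers_of_commute {u x : G} (h : Commute u x) :
    MulAut.conj u • Subgroup.zpowers x = Subgroup.zpowers x := by
  have hc : ∀ y ∈ Subgroup.zpowers x, Commute u y := by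
    intro y hy
    obtain ⟨k, rfl⟩ := Subgroup.mem_zpowers_iff.1 hy
    exact h.zpow_right k
  ext y
  rw [mem_conj_smul]
  constructor
  · intro hy
    have h1 := hc _ hy
    have e : y = u * (u⁻¹ * y * u) * u⁻¹ := by group
    rw [e, h1.eq]
    have : u⁻¹ * y * u * u * u⁻¹ = u⁻¹ * y * u := by group
    rw [this]; exact hy
  · intro hy
    have h1 := hc _ hy
    have : u⁻¹ * y * u = y := by
      rw [mul_assoc, ← h1.eq, ← mul_assoc, inv_mul_cancel, one_mul]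
    rw [this]; exact hy

section line

variable [Finite G] {P : Subgroup G} {γ : G} {t : ℕ} {z : G}

theorem Line.X_inv (L : Line P γ t z) (k : ℤ) : (X γ t z k)⁻¹ = X γ t z k :=
  inv_eq_of_mul_eq_one_left (L.X_sq k)

theorem Line.comm_of_c_eq_one (L : Line P γ t z) {i j : ℤ}
    (h : X γ t z i * X γ t z j * X γ t z i * X γ t z j = 1) :
    Commute (X γ t z i) (X γ t z j) := by
  have h1 : X γ t z i * X γ t z j = (X γ t z i * X γ t z j)⁻¹ := by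
    rw [eq_inv_iff_mul_eq_one, ← mul_assoc]; exact h
  rw [mul_inv_rev, L.X_inv, L.X_inv] at h1
  exact h1

theorem Line.two_le_l (L : Line P γ t z) {l : ℕ} (hlt : l < t)
    (hN : ¬ Commute (X γ t z 0) (X γ t z l)) : 2 ≤ l := by
  by_contra hcon
  have hl : l = 0 ∨ l = 1 := by omega
  rcases hl with rfl | rfl
  · exact hN (Commute.refl _)
  · apply hN
    apply L.comm_of_c_eq_one
    have h1 := L.comm_loc (i := 0) (j := ((1 : ℕ) : ℤ)) (by norm_num) (by push_cast; omega)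
    rw [L.Y_eq_bot (by norm_num)] at h1
    exact Subgroup.mem_bot.1 h1

/-- `2λ ≥ t + 1`, from the nontrivial centre of `P = Y 0 (t-1)` -/
theorem Line.lower (L : Line P γ t z) {l : ℕ} (hlt : l < t) (hZ : HZ1 P γ t z l) :
    (t : ℤ) - l ≤ l - 1 := by
  have hcard : Nat.card (Y P γ t 0 ((t : ℤ) - 1)) = 2 ^ t := by
    rw [L.card_Y (by omega) (by omega)]
    congr 1
    omega
  have hp : IsPGroup 2 (Y P γ t 0 ((t : ℤ) - 1)) := IsPGroup.of_card hcard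
  have hnt : Nontrivial (Y P γ t 0 ((t : ℤ) - 1)) := by
    rw [← Finite.one_lt_card_iff_nontrivial, hcard]
    exact Nat.one_lt_two_pow (by have := L.one_le; omega)
  haveI : Fact (Nat.Prime 2) := ⟨Nat.prime_two⟩
  have hc := hp.center_nontrivial
  obtain ⟨⟨w, hw⟩, hw1⟩ := exists_ne (1 : Subgroup.center (Y P γ t 0 ((t : ℤ) - 1)))
  have hwc : ∀ k : ℤ, 0 ≤ k → k ≤ (t : ℤ) - 1 → Commute (w : G) (X γ t z k) := by
    intro k hk1 hk2
    have := (Subgroup.mem_center_iff.1 hw) ⟨X γ t z k, L.X_mem' hk1 hk2⟩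
    have h2 := congrArg Subtype.val this
    simp only [Subgroup.coe_mul] at h2
    exact h2.symm
  have e1 : (l : ℤ) - 1 + ((t - l : ℕ) : ℤ) = (t : ℤ) - 1 := by omega
  have h3 := hZ (t - l) (by omega) (w : G) (by rw [e1]; exact w.2) (by rw [e1]; exact hwc)
  by_contra hcon
  rw [L.Y_eq_bot (by omega)] at h3
  apply hw1
  apply Subtype.ext
  apply Subtype.ext
  exact Subgroup.mem_bot.1 h3

/-- conjugating a central element of `Q = Y 1 (t-1)` by a normalizing element -/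
theorem Line.central_conj (L : Line P γ t z) {u q : G}
    (hu : MulAut.conj u • Y P γ t 1 ((t : ℤ) - 1) = Y P γ t 1 ((t : ℤ) - 1))
    (hq : q ∈ Y P γ t 1 ((t : ℤ) - 1))
    (hqc : ∀ k : ℤ, 1 ≤ k → k ≤ (t : ℤ) - 1 → Commute q (X γ t z k)) :
    u * q * u⁻¹ ∈ Y P γ t 1 ((t : ℤ) - 1) ∧
      ∀ k : ℤ, 1 ≤ k → k ≤ (t : ℤ) - 1 → Commute (u * q * u⁻¹) (X γ t z k) := by
  refine ⟨conj_mem_of_smul_eq hu hq, ?_⟩
  intro k hk1 hk2
  have h1 : u⁻¹ * X γ t z k * u ∈ Y P γ t 1 ((t : ℤ) - 1) := by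
    have := conj_mem_of_smul_eq (conj_inv_smul_eq hu) (L.X_mem' (a := 1) (b := (t : ℤ) - 1) hk1 hk2)
    simpa using this
  have h2 := L.commute_window (a := 1) (b := (t : ℤ) - 1) (by omega) hqc _ h1
  have h3 := h2.conj u
  have e : u * (u⁻¹ * X γ t z k * u) * u⁻¹ = X γ t z k := by group
  rwa [e] at h3

/-- the centre of `Q = Y 1 (t-1)` -/
theorem Line.center_Q (L : Line P γ t z) {l : ℕ} (hl1 : 1 ≤ l) (hlt : l < t) (hZ : HZ1 P γ t z l)
    {w : G} (hw : w ∈ Y P γ t 1 ((t : ℤ) - 1))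
    (hwc : ∀ k : ℤ, 1 ≤ k → k ≤ (t : ℤ) - 1 → Commute w (X γ t z k)) :
    w ∈ Y P γ t ((t : ℤ) - l) l := by
  have h1 : γ⁻¹ * w * γ ∈ Y P γ t 0 ((t : ℤ) - 2) := by
    have h := smul_Y_one P γ t 0 ((t : ℤ) - 2)
    have e : (t : ℤ) - 2 + 1 = (t : ℤ) - 1 := by ring
    rw [zero_add, e] at h
    rw [← h, mem_conj_smul] at hw
    exact hw
  have h2 : ∀ k : ℤ, 0 ≤ k → k ≤ (t : ℤ) - 2 → Commute (γ⁻¹ * w * γ) (X γ t z k) := by
    intro k hk1 hk2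
    have h := (hwc (k + 1) (by omega) (by omega)).conj γ⁻¹
    rw [inv_inv, X_pred] at h
    have e : k + 1 - 1 = k := by ring
    rwa [e] at h
  have e1 : (l : ℤ) - 1 + ((t - 1 - l : ℕ) : ℤ) = (t : ℤ) - 2 := by omega
  have h3 := hZ (t - 1 - l) (by omega) _ (by rw [e1]; exact h1) (by rw [e1]; exact h2)
  have h4 := smul_Y_one P γ t ((t - 1 - l : ℕ) : ℤ) ((l : ℤ) - 1)
  have e2 : ((t - 1 - l : ℕ) : ℤ) + 1 = (t : ℤ) - l := by omega
  have e3 : (l : ℤ) - 1 + 1 = l := by ring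
  rw [e2, e3] at h4
  rw [← h4, mem_conj_smul]
  exact h3

/-- `3λ ≥ 2t`: the commutator `[X 0, X λ]` lies in `Y (t-λ) (2λ-t)` -/
theorem Line.ineq_a (L : Line P γ t z) {l : ℕ} (hl1 : 2 ≤ l) (hlt : l < t) (hC : Comm γ t z l)
    (hZ : HZ1 P γ t z l) (hlow : (t : ℤ) - l ≤ l - 1)
    (hQ0 : MulAut.conj (X γ t z 0) • Y P γ t 1 ((t : ℤ) - 1) = Y P γ t 1 ((t : ℤ) - 1))
    (hQt : MulAut.conj (X γ t z t) • Y P γ t 1 ((t : ℤ) - 1) = Y P γ t 1 ((t : ℤ) - 1)) :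
    X γ t z 0 * X γ t z l * X γ t z 0 * X γ t z l ∈ Y P γ t ((t : ℤ) - l) (2 * (l : ℤ) - t) := by
  -- `X l` is central in `Q`
  have hXl : X γ t z l ∈ Y P γ t 1 ((t : ℤ) - 1) := L.X_mem' (by omega) (by omega)
  have hXlc : ∀ k : ℤ, 1 ≤ k → k ≤ (t : ℤ) - 1 → Commute (X γ t z l) (X γ t z k) :=
    fun k hk1 hk2 => hC.comm (by omega) (by omega)
  obtain ⟨hv, hvc⟩ := L.central_conj hQ0 hXl hXlc
  have hc_eq : X γ t z 0 * X γ t z l * X γ t z 0 * X γ t z l =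
      (X γ t z 0 * X γ t z l * (X γ t z 0)⁻¹) * X γ t z l := by rw [L.X_inv]
  have hcQ : X γ t z 0 * X γ t z l * X γ t z 0 * X γ t z l ∈ Y P γ t 1 ((t : ℤ) - 1) := by
    rw [hc_eq]; exact Subgroup.mul_mem _ hv hXl
  have hcc : ∀ k : ℤ, 1 ≤ k → k ≤ (t : ℤ) - 1 →
      Commute (X γ t z 0 * X γ t z l * X γ t z 0 * X γ t z l) (X γ t z k) := by
    intro k hk1 hk2
    rw [hc_eq]; exact (hvc k hk1 hk2).mul_left (hXlc k hk1 hk2)
  have h3 := L.center_Q (by omega) hlt hZ hcQ hcc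
  have h4 := L.comm_loc (i := 0) (j := (l : ℤ)) (by omega) (by omega)
  have h5 : X γ t z 0 * X γ t z l * X γ t z 0 * X γ t z l ∈
      Y P γ t (0 + 1) ((l : ℤ) - 1) ⊓ Y P γ t ((t : ℤ) - l) l := ⟨h4, h3⟩
  rw [Y_inf P γ t (by omega) (by omega) (by omega)] at h5
  -- mirror
  have hXm : X γ t z ((t : ℤ) - l) ∈ Y P γ t 1 ((t : ℤ) - 1) := L.X_mem' (by omega) (by omega)
  have hXmc : ∀ k : ℤ, 1 ≤ k → k ≤ (t : ℤ) - 1 → Commute (X γ t z ((t : ℤ) - l)) (X γ t z k) :=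
    fun k hk1 hk2 => hC.comm (by omega) (by omega)
  obtain ⟨hv', hvc'⟩ := L.central_conj hQt hXm hXmc
  have hc_eq' : X γ t z t * X γ t z ((t : ℤ) - l) * X γ t z t * X γ t z ((t : ℤ) - l) =
      (X γ t z t * X γ t z ((t : ℤ) - l) * (X γ t z t)⁻¹) * X γ t z ((t : ℤ) - l) := by
    rw [L.X_inv]
  have hcQ' : X γ t z t * X γ t z ((t : ℤ) - l) * X γ t z t * X γ t z ((t : ℤ) - l) ∈
      Y P γ t 1 ((t : ℤ) - 1) := by
    rw [hc_eq']; exact Subgroup.mul_mem _ hv' hXm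
  have hcc' : ∀ k : ℤ, 1 ≤ k → k ≤ (t : ℤ) - 1 →
      Commute (X γ t z t * X γ t z ((t : ℤ) - l) * X γ t z t * X γ t z ((t : ℤ) - l))
        (X γ t z k) := by
    intro k hk1 hk2
    rw [hc_eq']; exact (hvc' k hk1 hk2).mul_left (hXmc k hk1 hk2)
  have h3' := L.center_Q (by omega) hlt hZ hcQ' hcc'
  have h4' := L.comm_loc (i := (t : ℤ) - l) (j := (t : ℤ)) (by omega) (by omega)
  -- the shifted commutator
  have hsh : γ ^ ((t : ℤ) - l) * (X γ t z 0 * X γ t z l * X γ t z 0 * X γ t z l) *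
      (γ ^ ((t : ℤ) - l))⁻¹ =
      X γ t z ((t : ℤ) - l) * X γ t z t * X γ t z ((t : ℤ) - l) * X γ t z t := by
    have e0 := X_shift γ t z 0 ((t : ℤ) - l)
    have el := X_shift γ t z l ((t : ℤ) - l)
    rw [zero_add] at e0
    have e2 : (l : ℤ) + ((t : ℤ) - l) = t := by ring
    rw [e2] at el
    rw [← e0, ← el]
    group
  have hinv : X γ t z ((t : ℤ) - l) * X γ t z t * X γ t z ((t : ℤ) - l) * X γ t z t =
      (X γ t z t * X γ t z ((t : ℤ) - l) * X γ t z t * X γ t z ((t : ℤ) - l))⁻¹ := by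
    rw [mul_inv_rev, mul_inv_rev, mul_inv_rev, L.X_inv, L.X_inv]
    group
  have h5' : X γ t z ((t : ℤ) - l) * X γ t z t * X γ t z ((t : ℤ) - l) * X γ t z t ∈
      Y P γ t ((t : ℤ) - l) l ⊓ Y P γ t ((t : ℤ) - l + 1) ((t : ℤ) - 1) := by
    refine ⟨?_, h4'⟩
    rw [hinv]; exact Subgroup.inv_mem _ h3'
  rw [Y_inf P γ t (by omega) (by omega) (by omega)] at h5'
  have h6 : X γ t z 0 * X γ t z l * X γ t z 0 * X γ t z l ∈ Y P γ t 1 (2 * (l : ℤ) - t) := by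
    have h := smul_Y P γ t ((t : ℤ) - l) 1 (2 * (l : ℤ) - t)
    have e1 : (1 : ℤ) + ((t : ℤ) - l) = (t : ℤ) - l + 1 := by ring
    have e2 : 2 * (l : ℤ) - t + ((t : ℤ) - l) = l := by ring
    rw [e1, e2] at h
    rw [← h, ← hsh, mem_conj_smul] at h5'
    have e3 : (γ ^ ((t : ℤ) - l))⁻¹ * (γ ^ ((t : ℤ) - l) *
        (X γ t z 0 * X γ t z l * X γ t z 0 * X γ t z l) * (γ ^ ((t : ℤ) - l))⁻¹) *
        γ ^ ((t : ℤ) - l) = X γ t z 0 * X γ t z l * X γ t z 0 * X γ t z l := by group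
    rwa [e3] at h5'
  have h7 : X γ t z 0 * X γ t z l * X γ t z 0 * X γ t z l ∈
      Y P γ t 1 (2 * (l : ℤ) - t) ⊓ Y P γ t ((t : ℤ) - l) ((l : ℤ) - 1) := ⟨h6, h5⟩
  rwa [Y_inf P γ t (by omega) (by omega) (by omega)] at h7

/-- `2λ ≤ t + 2`: otherwise `X (λ-1)` is central in `H` and in `γHγ⁻¹` -/
theorem Line.upper (L : Line P γ t z) {l : ℕ} (hl1 : 2 ≤ l) (hlt : l ≤ t) (hC : Comm γ t z l)
    (hCF : ∀ N : Subgroup G, N ≤ Y P γ t 1 t →
      (∀ k : ℤ, 0 ≤ k → k ≤ (t : ℤ) + 1 → MulAut.conj (X γ t z k) • N = N) → N = ⊥) :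
    2 * l ≤ t + 2 := by
  by_contra hcon
  have h1 : Subgroup.zpowers (X γ t z ((l : ℤ) - 1)) = ⊥ := by
    apply hCF
    · rw [Subgroup.zpowers_le]
      exact L.X_mem' (by omega) (by omega)
    · intro k hk1 hk2
      exact conj_smul_zpowers_of_commute (hC.comm (by omega) (by omega))
  rw [Subgroup.zpowers_eq_bot] at h1
  exact L.X_ne_one _ h1

end line

end Cfsg.Agent.Helper3.SimsW
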