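import Cfsg.Agent.Helper3.Sims.Calc2

/-!
# Sims' theorem (dihedral form): the small cases `t = 2, 3, 4`
-/

set_option autoImplicit false
set_option linter.unusedSectionVars false
set_option linter.unusedVariables false
open Pointwise

namespace Cfsg.Agent.Helper3.SimsW

variable {G : Type*} [Group G]

theorem conj_smul_eq_of_commute {u : G} {N : Subgroup G} (hc : ∀ y ∈ N, Commute u y) :
    MulAut.conj u • N = N := by
  ext y
  rw [mem_conj_smul]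
  constructor
  · intro hy
    have h1 := hc _ hy
    have e : y = u * (u⁻¹ * y * u) * u⁻¹ := by group
    rw [e, h1.eq]
    have : u⁻¹ * y * u * u * u⁻¹ = u⁻¹ * y * u := by group
    rw [this]; exact hy
  · intro hy
    have h1 := hc _ hy
    have : u⁻¹ * y * u = y := by
      rw [mul_assoc, ← h1.eq, ← mul_assoc, inv_mul_cancel, one_mul]
    rw [this]; exact hy

/-- the elements normalizing `N` -/
def Nz (N : Subgroup G) : Subgroup G :=
  (MulAction.stabilizer (MulAut G) N).comap (MulAut.conj : G →* MulAut G)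

theorem mem_Nz {N : Subgroup G} {h : G} : h ∈ Nz N ↔ MulAut.conj h • N = N := by
  unfold Nz
  rw [Subgroup.mem_comap, MulAction.mem_stabilizer_iff]

theorem cube_fix {ρ a b c : G} (h1 : ρ * a * ρ⁻¹ = b) (h2 : ρ * b * ρ⁻¹ = c)
    (h3 : ρ * c * ρ⁻¹ = a) : ρ ^ 3 * a = a * ρ ^ 3 := by
  subst h1
  subst h2
  have e3 : ρ ^ 3 = ρ * ρ * ρ := by rw [pow_succ, pow_two]
  rw [e3]
  calc ρ * ρ * ρ * a = (ρ * (ρ * (ρ * a * ρ⁻¹) * ρ⁻¹) * ρ⁻¹) * (ρ * ρ * ρ) := by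
        simp only [mul_assoc, inv_mul_cancel_left, inv_mul_cancel, mul_one]
    _ = a * (ρ * ρ * ρ) := by rw [h3]

/-- the relations of the case `t = 3` -/
theorem rel_three {x0 x1 x2 x3 : G} (s0 : x0 * x0 = 1) (s1 : x1 * x1 = 1) (s2 : x2 * x2 = 1)
    (s3 : x3 * x3 = 1) (c01 : Commute x0 x1) (c12 : Commute x1 x2) (c23 : Commute x2 x3)
    (r1 : x0 * x2 * x0 * x2 = x1) (r2 : x1 * x3 * x1 * x3 = x2) :
    (x0 * x3) * x1 * (x0 * x3)⁻¹ = x2 ∧ (x0 * x3) * x2 * (x0 * x3)⁻¹ = x1 * x2 ∧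
      (x0 * x3) * (x1 * x2) * (x0 * x3)⁻¹ = x1 := by
  have i0 : x0⁻¹ = x0 := inv_eq_of_mul_eq_one_left s0
  have i3 : x3⁻¹ = x3 := inv_eq_of_mul_eq_one_left s3
  have a1 : x0 * x2 * x0 = x1 * x2 := by
    calc x0 * x2 * x0 = x0 * x2 * x0 * (x2 * x2) := by rw [s2, mul_one]
      _ = (x0 * x2 * x0 * x2) * x2 := by group
      _ = x1 * x2 := by rw [r1]
  have a2 : x3 * x1 * x3 = x1 * x2 := by
    calc x3 * x1 * x3 = (x1 * x1) * x3 * x1 * x3 := by rw [s1, one_mul]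
      _ = x1 * (x1 * x3 * x1 * x3) := by group
      _ = x1 * x2 := by rw [r2]
  have hinv : (x0 * x3)⁻¹ = x3 * x0 := by rw [mul_inv_rev, i0, i3]
  have C1 : (x0 * x3) * x1 * (x0 * x3)⁻¹ = x2 := by
    rw [hinv]
    calc x0 * x3 * x1 * (x3 * x0) = x0 * (x3 * x1 * x3) * x0 := by group
      _ = x0 * (x1 * x2) * x0 := by rw [a2]
      _ = (x0 * x1) * x2 * x0 := by group
      _ = (x1 * x0) * x2 * x0 := by rw [c01.eq]
      _ = x1 * (x0 * x2 * x0) := by group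
      _ = x1 * (x1 * x2) := by rw [a1]
      _ = (x1 * x1) * x2 := by group
      _ = x2 := by rw [s1, one_mul]
  have C2 : (x0 * x3) * x2 * (x0 * x3)⁻¹ = x1 * x2 := by
    rw [hinv]
    calc x0 * x3 * x2 * (x3 * x0) = x0 * (x3 * x2) * x3 * x0 := by group
      _ = x0 * (x2 * x3) * x3 * x0 := by rw [← c23.eq]
      _ = x0 * x2 * (x3 * x3) * x0 := by group
      _ = x0 * x2 * x0 := by rw [s3, mul_one]
      _ = x1 * x2 := a1
  refine ⟨C1, C2, ?_⟩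
  calc (x0 * x3) * (x1 * x2) * (x0 * x3)⁻¹
      = ((x0 * x3) * x1 * (x0 * x3)⁻¹) * ((x0 * x3) * x2 * (x0 * x3)⁻¹) := by group
    _ = x2 * (x1 * x2) := by rw [C1, C2]
    _ = x2 * (x2 * x1) := by rw [c12.eq]
    _ = (x2 * x2) * x1 := by group
    _ = x1 := by rw [s2, one_mul]

/-- the relations of the case `t = 4` -/
theorem rel_four {x0 x1 x2 x3 x4 : G} (s0 : x0 * x0 = 1) (s1 : x1 * x1 = 1) (s2 : x2 * x2 = 1)
    (s3 : x3 * x3 = 1) (s4 : x4 * x4 = 1) (c01 : Commute x0 x1) (c02 : Commute x0 x2)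
    (c12 : Commute x1 x2) (c13 : Commute x1 x3) (c23 : Commute x2 x3) (c24 : Commute x2 x4)
    (c34 : Commute x3 x4)
    (r1 : x0 * x3 * x0 * x3 = x1 * x2) (r2 : x1 * x4 * x1 * x4 = x2 * x3) :
    (x0 * x4) * x1 * (x0 * x4)⁻¹ = x3 ∧ (x0 * x4) * x3 * (x0 * x4)⁻¹ = x1 * x2 * x3 ∧
      (x0 * x4) * (x1 * x2 * x3) * (x0 * x4)⁻¹ = x1 ∧ Commute (x0 * x4) x2 := by
  have i0 : x0⁻¹ = x0 := inv_eq_of_mul_eq_one_left s0
  have i4 : x4⁻¹ = x4 := inv_eq_of_mul_eq_one_left s4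
  have a1 : x0 * x3 * x0 = x1 * x2 * x3 := by
    calc x0 * x3 * x0 = x0 * x3 * x0 * (x3 * x3) := by rw [s3, mul_one]
      _ = (x0 * x3 * x0 * x3) * x3 := by group
      _ = x1 * x2 * x3 := by rw [r1]
  have a2 : x4 * x1 * x4 = x1 * x2 * x3 := by
    calc x4 * x1 * x4 = (x1 * x1) * x4 * x1 * x4 := by rw [s1, one_mul]
      _ = x1 * (x1 * x4 * x1 * x4) := by group
      _ = x1 * (x2 * x3) := by rw [r2]
      _ = x1 * x2 * x3 := by group
  have hinv : (x0 * x4)⁻¹ = x4 * x0 := by rw [mul_inv_rev, i0, i4]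
  have C1 : (x0 * x4) * x1 * (x0 * x4)⁻¹ = x3 := by
    rw [hinv]
    calc x0 * x4 * x1 * (x4 * x0) = x0 * (x4 * x1 * x4) * x0 := by group
      _ = x0 * (x1 * x2 * x3) * x0 := by rw [a2]
      _ = (x0 * x1) * x2 * x3 * x0 := by group
      _ = (x1 * x0) * x2 * x3 * x0 := by rw [c01.eq]
      _ = x1 * (x0 * x2) * x3 * x0 := by group
      _ = x1 * (x2 * x0) * x3 * x0 := by rw [c02.eq]
      _ = x1 * x2 * (x0 * x3 * x0) := by group
      _ = x1 * x2 * (x1 * x2 * x3) := by rw [a1]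
      _ = x1 * (x2 * x1) * x2 * x3 := by group
      _ = x1 * (x1 * x2) * x2 * x3 := by rw [← c12.eq]
      _ = (x1 * x1) * (x2 * x2) * x3 := by group
      _ = x3 := by rw [s1, s2, one_mul, one_mul]
  have C2 : (x0 * x4) * x3 * (x0 * x4)⁻¹ = x1 * x2 * x3 := by
    rw [hinv]
    calc x0 * x4 * x3 * (x4 * x0) = x0 * (x4 * x3) * x4 * x0 := by group
      _ = x0 * (x3 * x4) * x4 * x0 := by rw [← c34.eq]
      _ = x0 * x3 * (x4 * x4) * x0 := by group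
      _ = x0 * x3 * x0 := by rw [s4, mul_one]
      _ = x1 * x2 * x3 := a1
  have C4 : Commute (x0 * x4) x2 := c02.mul_left c24.symm
  have C2' : (x0 * x4) * x2 * (x0 * x4)⁻¹ = x2 := by
    rw [C4.eq, mul_assoc, mul_inv_cancel, mul_one]
  refine ⟨C1, C2, ?_, C4⟩
  calc (x0 * x4) * (x1 * x2 * x3) * (x0 * x4)⁻¹
      = ((x0 * x4) * x1 * (x0 * x4)⁻¹) * ((x0 * x4) * x2 * (x0 * x4)⁻¹) *
        ((x0 * x4) * x3 * (x0 * x4)⁻¹) := by group
    _ = x3 * x2 * (x1 * x2 * x3) := by rw [C1, C2', C2]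
    _ = x3 * x2 * (x1 * (x2 * x3)) := by group
    _ = x3 * x2 * ((x2 * x3) * x1) := by rw [(c12.mul_right c13).eq]
    _ = x3 * (x2 * x2) * x3 * x1 := by group
    _ = x1 := by rw [s2, mul_one, s3, one_mul]

section line

variable [Finite G] {P : Subgroup G} {γ : G} {t : ℕ} {z : G}

theorem Line.mem_Y_single (L : Line P γ t z) (k : ℤ) {w : G} (hw : w ∈ Y P γ t k k) :
    w = 1 ∨ w = X γ t z k := by
  have h := L.decomp_left (a := k) (b := k) le_rfl (by have := L.one_le; omega) hw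
  rw [L.Y_eq_bot (by omega)] at h
  rcases h with h | h
  · left; exact Subgroup.mem_bot.1 h
  · right
    have h1 := Subgroup.mem_bot.1 h
    rw [← L.X_inv k]
    exact eq_inv_of_mul_eq_one_right h1

/-- the abelian case `λ = t` -/
theorem Line.case_abelian (L : Line P γ t z) (ht2 : 2 ≤ t) (hC : Comm γ t z t)
    (hCF : ∀ N : Subgroup G, N ≤ Y P γ t 1 t →
      (∀ k : ℤ, 0 ≤ k → k ≤ (t : ℤ) + 1 → MulAut.conj (X γ t z k) • N = N) → N = ⊥) :
    t = 2 ∧ ∀ q ∈ Y P γ t 1 ((t : ℤ) - 1), ∀ k : ℤ, 0 ≤ k → k ≤ t → Commute q (X γ t z k) := by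
  constructor
  · by_contra hne
    have ht3 : 3 ≤ t := by omega
    have h1 : Y P γ t 2 ((t : ℤ) - 1) = ⊥ := by
      apply hCF
      · exact Y_mono P γ t (by omega) (by omega)
      · intro k hk1 hk2
        apply conj_smul_eq_of_commute
        apply L.commute_window (by omega)
        intro j hj1 hj2
        exact hC.comm (by omega) (by omega)
    have h2 : X γ t z 2 ∈ Y P γ t 2 ((t : ℤ) - 1) := L.X_mem' le_rfl (by omega)
    rw [h1] at h2
    exact L.X_ne_one 2 (Subgroup.mem_bot.1 h2)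
  · intro q hq k hk1 hk2
    refine (L.commute_window (a := 1) (b := (t : ℤ) - 1) (by omega) ?_ q hq).symm
    intro j hj1 hj2
    exact hC.comm (by omega) (by omega)

/-- the numerical restrictions in the nonabelian case -/
theorem Line.numerics (L : Line P γ t z) {l : ℕ} (hlt : l < t) (hC : Comm γ t z l)
    (hN : ¬ Commute (X γ t z 0) (X γ t z l)) (hZ : HZ1 P γ t z l)
    (hCF : ∀ N : Subgroup G, N ≤ Y P γ t 1 t →
      (∀ k : ℤ, 0 ≤ k → k ≤ (t : ℤ) + 1 → MulAut.conj (X γ t z k) • N = N) → N = ⊥)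
    (hQ0 : MulAut.conj (X γ t z 0) • Y P γ t 1 ((t : ℤ) - 1) = Y P γ t 1 ((t : ℤ) - 1))
    (hQt : MulAut.conj (X γ t z t) • Y P γ t 1 ((t : ℤ) - 1) = Y P γ t 1 ((t : ℤ) - 1)) :
    ((t = 3 ∧ l = 2) ∨ (t = 4 ∧ l = 3) ∨ (t = 6 ∧ l = 4)) ∧
      X γ t z 0 * X γ t z l * X γ t z 0 * X γ t z l ∈
        Y P γ t ((t : ℤ) - l) (2 * (l : ℤ) - t) := by
  have hl2 := L.two_le_l hlt hN
  have hlow := L.lower hlt hZ
  have ha := L.ineq_a hl2 hlt hC hZ hlow hQ0 hQt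
  have hup := L.upper hl2 hlt.le hC hCF
  refine ⟨?_, ha⟩
  have h3 : 2 * (t : ℤ) ≤ 3 * l := by
    by_contra hcon
    rw [L.Y_eq_bot (by omega)] at ha
    exact hN (L.comm_of_c_eq_one (Subgroup.mem_bot.1 ha))
  omega

end line

section cases

variable [Finite G] {P : Subgroup G} {γ : G}

/-- the case `t = 3` -/
theorem case_three {z : G} (L : Line P γ 3 z) (hC : Comm γ 3 z 2)
    (hN : ¬ Commute (X γ 3 z 0) (X γ 3 z 2)) :
    (∀ q ∈ Y P γ 3 1 2, q * q = 1) ∧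
    (∀ q ∈ Y P γ 3 1 2, ∀ q' ∈ Y P γ 3 1 2, q * q' = q' * q) ∧
    (∃ q ∈ Y P γ 3 1 2, X γ 3 z 0 * q ≠ q * X γ 3 z 0) ∧
    (∀ q ∈ Y P γ 3 1 2, (X γ 3 z 0 * X γ 3 z 3) ^ 3 * q = q * (X γ 3 z 0 * X γ 3 z 3) ^ 3) ∧
    (∃ q ∈ Y P γ 3 1 2, (X γ 3 z 0 * X γ 3 z 3) * q ≠ q * (X γ 3 z 0 * X γ 3 z 3)) := by
  have sq : ∀ k, X γ 3 z k * X γ 3 z k = 1 := L.X_sq
  have cm : ∀ i j : ℤ, i - j < 2 → j - i < 2 → Commute (X γ 3 z i) (X γ 3 z j) :=
    fun i j h1 h2 => hC.comm (by exact_mod_cast h1) (by exact_mod_cast h2)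
  have hc11 : X γ 3 z 0 * X γ 3 z 2 * X γ 3 z 0 * X γ 3 z 2 ∈ Y P γ 3 1 1 := by
    have := L.comm_loc (i := 0) (j := 2) (by norm_num) (by norm_num)
    norm_num at this
    exact this
  have hc1 : X γ 3 z 0 * X γ 3 z 2 * X γ 3 z 0 * X γ 3 z 2 = X γ 3 z 1 := by
    rcases L.mem_Y_single 1 hc11 with h | h
    · exact absurd (L.comm_of_c_eq_one h) hN
    · exact h
  have e0 : γ * X γ 3 z 0 * γ⁻¹ = X γ 3 z 1 := by
    have := X_succ γ 3 z 0
    rwa [show (0 : ℤ) + 1 = 1 by norm_num] at this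
  have e1 : γ * X γ 3 z 1 * γ⁻¹ = X γ 3 z 2 := by
    have := X_succ γ 3 z 1
    rwa [show (1 : ℤ) + 1 = 2 by norm_num] at this
  have e2 : γ * X γ 3 z 2 * γ⁻¹ = X γ 3 z 3 := by
    have := X_succ γ 3 z 2
    rwa [show (2 : ℤ) + 1 = 3 by norm_num] at this
  have hc2 : X γ 3 z 1 * X γ 3 z 3 * X γ 3 z 1 * X γ 3 z 3 = X γ 3 z 2 := by
    calc X γ 3 z 1 * X γ 3 z 3 * X γ 3 z 1 * X γ 3 z 3
        = γ * (X γ 3 z 0 * X γ 3 z 2 * X γ 3 z 0 * X γ 3 z 2) * γ⁻¹ := by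
          rw [← e0, ← e2]; group
      _ = γ * X γ 3 z 1 * γ⁻¹ := by rw [hc1]
      _ = X γ 3 z 2 := e1
  obtain ⟨C1, C2, C3⟩ := rel_three (sq 0) (sq 1) (sq 2) (sq 3)
    (cm 0 1 (by norm_num) (by norm_num)) (cm 1 2 (by norm_num) (by norm_num))
    (cm 2 3 (by norm_num) (by norm_num)) hc1 hc2
  refine ⟨?_, ?_, ?_, ?_, ?_⟩
  · exact L.Y_sq hC (by norm_num) (by norm_num)
  · intro q hq q' hq'
    exact (L.Y_commute hC (by norm_num) (by norm_num) q hq q' hq').eq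
  · refine ⟨X γ 3 z 2, L.X_mem' (by norm_num) (by norm_num), ?_⟩
    intro h
    exact hN h
  · intro q hq
    have hcw : ∀ u ∈ Y P γ 3 1 2, Commute ((X γ 3 z 0 * X γ 3 z 3) ^ 3) u := by
      apply L.commute_window (by norm_num)
      intro k hk1 hk2
      have hk : k = 1 ∨ k = 2 := by omega
      rcases hk with rfl | rfl
      · exact cube_fix C1 C2 C3
      · exact cube_fix C2 C3 C1
    exact (hcw q hq).eq
  · refine ⟨X γ 3 z 1, L.X_mem' (by norm_num) (by norm_num), ?_⟩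
    intro h
    have h21 : X γ 3 z 2 = X γ 3 z 1 := by
      rw [← C1, h, mul_assoc, mul_inv_cancel, mul_one]
    have h2 := L.X_right_notMem (a := 1) (b := 2) (by norm_num)
    apply h2
    rw [h21]
    have := L.X_mem 1
    norm_num
    exact this

/-- the case `t = 4` -/
theorem case_four {z : G} (L : Line P γ 4 z) (hC : Comm γ 4 z 3)
    (hN : ¬ Commute (X γ 4 z 0) (X γ 4 z 3)) (r : G)
    (hrH : r ∈ Y P γ 4 0 3 ⊔ Y P γ 4 1 4)
    (hrP : MulAut.conj r • Y P γ 4 0 3 = Y P γ 4 1 4)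
    (hrQ : MulAut.conj r • Y P γ 4 1 3 = Y P γ 4 1 3) :
    (∀ q ∈ Y P γ 4 1 3, q * q = 1) ∧
    (∀ q ∈ Y P γ 4 1 3, ∀ q' ∈ Y P γ 4 1 3, q * q' = q' * q) ∧
    (∃ q ∈ Y P γ 4 1 3, X γ 4 z 0 * q ≠ q * X γ 4 z 0) ∧
    (∀ q ∈ Y P γ 4 1 3, (X γ 4 z 0 * X γ 4 z 4) ^ 3 * q = q * (X γ 4 z 0 * X γ 4 z 4) ^ 3) ∧
    (∃ q ∈ Y P γ 4 1 3, (X γ 4 z 0 * X γ 4 z 4) * q ≠ q * (X γ 4 z 0 * X γ 4 z 4)) := by
  have sq : ∀ k, X γ 4 z k * X γ 4 z k = 1 := L.X_sq
  have inv : ∀ k, (X γ 4 z k)⁻¹ = X γ 4 z k := L.X_inv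
  have cm : ∀ i j : ℤ, i - j < 3 → j - i < 3 → Commute (X γ 4 z i) (X γ 4 z j) :=
    fun i j h1 h2 => hC.comm (by exact_mod_cast h1) (by exact_mod_cast h2)
  have hQs : ∀ q ∈ Y P γ 4 1 3, q * q = 1 := L.Y_sq hC (by norm_num) (by norm_num)
  have hQc : ∀ u ∈ Y P γ 4 1 3, ∀ v ∈ Y P γ 4 1 3, Commute u v :=
    L.Y_commute hC (by norm_num) (by norm_num)
  -- the commutator `c`
  obtain ⟨c, hcdef⟩ : ∃ c, c = X γ 4 z 0 * X γ 4 z 3 * X γ 4 z 0 * X γ 4 z 3 := ⟨_, rfl⟩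
  have hc12 : c ∈ Y P γ 4 1 2 := by
    have := L.comm_loc (i := 0) (j := 3) (by norm_num) (by norm_num)
    norm_num at this
    rw [hcdef]; exact this
  have hcne : c ≠ 1 := by
    intro h
    rw [hcdef] at h
    exact hN (L.comm_of_c_eq_one h)
  have hcQ : c ∈ Y P γ 4 1 3 := Y_mono P γ 4 le_rfl (by norm_num) hc12
  -- Claim A
  have hA : ∀ q ∈ Y P γ 4 1 3, q ∈ Y P γ 4 1 3 ∧
      (X γ 4 z 0 * q * X γ 4 z 0 = q ∨ X γ 4 z 0 * q * X γ 4 z 0 = c * q) := by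
    refine L.Y_induction (by norm_num) (fun q => q ∈ Y P γ 4 1 3 ∧
      (X γ 4 z 0 * q * X γ 4 z 0 = q ∨ X γ 4 z 0 * q * X γ 4 z 0 = c * q)) ?_ ?_ ?_
    · refine ⟨Subgroup.one_mem _, Or.inl ?_⟩
      rw [mul_one, sq]
    · rintro u v ⟨hu, hu'⟩ ⟨hv, hv'⟩
      refine ⟨Subgroup.mul_mem _ hu hv, ?_⟩
      have e : X γ 4 z 0 * (u * v) * X γ 4 z 0 =
          (X γ 4 z 0 * u * X γ 4 z 0) * (X γ 4 z 0 * v * X γ 4 z 0) := by
        have : (X γ 4 z 0 * u * X γ 4 z 0) * (X γ 4 z 0 * v * X γ 4 z 0) =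
            X γ 4 z 0 * u * (X γ 4 z 0 * X γ 4 z 0) * v * X γ 4 z 0 := by group
        rw [this, sq, mul_one]; group
      have hcu : c * u = u * c := (hQc c hcQ u hu).eq
      rcases hu' with hu' | hu' <;> rcases hv' with hv' | hv'
      · left; rw [e, hu', hv']
      · right; rw [e, hu', hv', ← mul_assoc, ← hcu, mul_assoc]
      · right; rw [e, hu', hv', mul_assoc]
      · left
        rw [e, hu', hv']
        calc c * u * (c * v) = (c * u) * c * v := by group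
          _ = (u * c) * c * v := by rw [hcu]
          _ = u * (c * c) * v := by group
          _ = u * v := by rw [hQs c hcQ, mul_one]
    · intro k hk1 hk2
      refine ⟨L.X_mem' hk1 hk2, ?_⟩
      have hk : k = 1 ∨ k = 2 ∨ k = 3 := by omega
      rcases hk with rfl | rfl | rfl
      · left
        rw [(cm 0 1 (by norm_num) (by norm_num)).eq, mul_assoc, sq, mul_one]
      · left
        rw [(cm 0 2 (by norm_num) (by norm_num)).eq, mul_assoc, sq, mul_one]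
      · right
        rw [hcdef, mul_assoc (X γ 4 z 0 * X γ 4 z 3 * X γ 4 z 0), sq, mul_one]
  -- `r` commutes with `X 2`
  have hr2 : Commute r (X γ 4 z 2) := by
    have h03 : Y P γ 4 0 3 ≤ Subgroup.centralizer {X γ 4 z 2} := by
      intro w hw
      rw [Subgroup.mem_centralizer_iff]
      intro h hh
      rw [Set.mem_singleton_iff] at hh
      subst hh
      exact (L.commute_window (a := 0) (b := 3) (by norm_num)
        (fun k hk1 hk2 => cm 2 k (by omega) (by omega)) w hw).eq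
    have h14 : Y P γ 4 1 4 ≤ Subgroup.centralizer {X γ 4 z 2} := by
      intro w hw
      rw [Subgroup.mem_centralizer_iff]
      intro h hh
      rw [Set.mem_singleton_iff] at hh
      subst hh
      exact (L.commute_window (a := 1) (b := 4) (by norm_num)
        (fun k hk1 hk2 => cm 2 k (by omega) (by omega)) w hw).eq
    have := (sup_le h03 h14) hrH
    rw [Subgroup.mem_centralizer_iff] at this
    exact (this _ rfl).symm
  -- Claim B
  have hx4 : r⁻¹ * X γ 4 z 4 * r ∈ Y P γ 4 0 3 := by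
    have h := L.X_mem' (a := 1) (b := 4) (k := 4) (by norm_num) le_rfl
    rw [← hrP, mem_conj_smul] at h
    exact h
  have hB : X γ 4 z 0 * (r⁻¹ * X γ 4 z 4 * r) ∈ Y P γ 4 1 3 := by
    have h := L.decomp_left (a := 0) (b := 3) (by norm_num) (by norm_num) hx4
    norm_num at h
    rcases h with h | h
    · exfalso
      have h1 := conj_mem_of_smul_eq hrQ h
      have e : r * (r⁻¹ * X γ 4 z 4 * r) * r⁻¹ = X γ 4 z 4 := by group
      rw [e] at h1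
      have h2 := L.X_right_notMem (a := 1) (b := 4) (by norm_num)
      norm_num at h2
      exact h2 h1
    · exact h
  -- Claim C for `q = X 1`
  obtain ⟨c', hc'def⟩ : ∃ c', c' = X γ 4 z 1 * X γ 4 z 4 * X γ 4 z 1 * X γ 4 z 4 := ⟨_, rfl⟩
  have e0 : γ * X γ 4 z 0 * γ⁻¹ = X γ 4 z 1 := by
    have := X_succ γ 4 z 0
    rwa [show (0 : ℤ) + 1 = 1 by norm_num] at this
  have e1 : γ * X γ 4 z 1 * γ⁻¹ = X γ 4 z 2 := by
    have := X_succ γ 4 z 1
    rwa [show (1 : ℤ) + 1 = 2 by norm_num] at this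
  have e2 : γ * X γ 4 z 2 * γ⁻¹ = X γ 4 z 3 := by
    have := X_succ γ 4 z 2
    rwa [show (2 : ℤ) + 1 = 3 by norm_num] at this
  have e3 : γ * X γ 4 z 3 * γ⁻¹ = X γ 4 z 4 := by
    have := X_succ γ 4 z 3
    rwa [show (3 : ℤ) + 1 = 4 by norm_num] at this
  have hc'c : c' = γ * c * γ⁻¹ := by
    rw [hc'def, hcdef, ← e0, ← e3]; group
  have hc'23 : c' ∈ Y P γ 4 2 3 := by
    have := L.comm_loc (i := 1) (j := 4) (by norm_num) (by norm_num)
    norm_num at this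
    rw [hc'def]; exact this
  have hc'Q : c' ∈ Y P γ 4 1 3 := Y_mono P γ 4 (by norm_num) le_rfl hc'23
  have hc'ne : c' ≠ 1 := by
    intro h
    rw [hc'c] at h
    apply hcne
    have : c = γ⁻¹ * (γ * c * γ⁻¹) * γ := by group
    rw [this, h]; group
  have hx1Q : X γ 4 z 1 ∈ Y P γ 4 1 3 := L.X_mem' (by norm_num) (by norm_num)
  have hx414 : X γ 4 z 4 * X γ 4 z 1 * X γ 4 z 4 = c' * X γ 4 z 1 := by
    have h1 : X γ 4 z 4 * X γ 4 z 1 * X γ 4 z 4 = X γ 4 z 1 * c' := by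
      rw [hc'def]
      have : X γ 4 z 1 * (X γ 4 z 1 * X γ 4 z 4 * X γ 4 z 1 * X γ 4 z 4) =
          (X γ 4 z 1 * X γ 4 z 1) * X γ 4 z 4 * X γ 4 z 1 * X γ 4 z 4 := by group
      rw [this, sq, one_mul]
    rw [h1]
    exact (hQc _ hx1Q _ hc'Q).eq
  have hcr : c' = r * c * r⁻¹ := by
    -- `q'' := r⁻¹ x1 r`
    have hq'' : r⁻¹ * X γ 4 z 1 * r ∈ Y P γ 4 1 3 := by
      have := conj_mem_of_smul_eq (conj_inv_smul_eq hrQ) hx1Q
      simpa using this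
    obtain ⟨hq''Q, hq''A⟩ := hA _ hq''
    -- `x4 x1 x4 = r (p q'' p⁻¹) r⁻¹`, `p = x0 q0`
    obtain ⟨q0, hq0def⟩ : ∃ q0, q0 = X γ 4 z 0 * (r⁻¹ * X γ 4 z 4 * r) := ⟨_, rfl⟩
    have hq0Q : q0 ∈ Y P γ 4 1 3 := by rw [hq0def]; exact hB
    have hp : r⁻¹ * X γ 4 z 4 * r = X γ 4 z 0 * q0 := by
      rw [hq0def, ← mul_assoc, sq, one_mul]
    have hx4r : X γ 4 z 4 = r * (X γ 4 z 0 * q0) * r⁻¹ := by
      rw [← hp]; group
    have hx4r' : X γ 4 z 4 = r * (q0⁻¹ * X γ 4 z 0) * r⁻¹ := by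
      have h1 : (X γ 4 z 4)⁻¹ = r * (q0⁻¹ * X γ 4 z 0) * r⁻¹ := by
        rw [hx4r]
        have : (r * (X γ 4 z 0 * q0) * r⁻¹)⁻¹ = r * (q0⁻¹ * (X γ 4 z 0)⁻¹) * r⁻¹ := by group
        rw [this, inv]
      rw [← h1, inv]
    have hkey : X γ 4 z 4 * X γ 4 z 1 * X γ 4 z 4 =
        r * (X γ 4 z 0 * (r⁻¹ * X γ 4 z 1 * r) * X γ 4 z 0) * r⁻¹ := by
      have hcomm : q0 * (r⁻¹ * X γ 4 z 1 * r) * q0⁻¹ = r⁻¹ * X γ 4 z 1 * r := by
        rw [(hQc _ hq0Q _ hq''Q).eq, mul_assoc, mul_inv_cancel, mul_one]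
      calc X γ 4 z 4 * X γ 4 z 1 * X γ 4 z 4
          = (r * (X γ 4 z 0 * q0) * r⁻¹) * X γ 4 z 1 * (r * (q0⁻¹ * X γ 4 z 0) * r⁻¹) := by
            rw [← hx4r, ← hx4r']
        _ = r * (X γ 4 z 0 * (q0 * (r⁻¹ * X γ 4 z 1 * r) * q0⁻¹) * X γ 4 z 0) * r⁻¹ := by group
        _ = r * (X γ 4 z 0 * (r⁻¹ * X γ 4 z 1 * r) * X γ 4 z 0) * r⁻¹ := by rw [hcomm]
    rcases hq''A with h | h
    · exfalso
      rw [h] at hkey
      have : r * (r⁻¹ * X γ 4 z 1 * r) * r⁻¹ = X γ 4 z 1 := by group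
      rw [this, hx414] at hkey
      apply hc'ne
      have := mul_right_cancel (b := X γ 4 z 1) (a := c') (c := 1) (by rw [one_mul]; exact hkey)
      exact this
    · rw [h] at hkey
      have : r * (c * (r⁻¹ * X γ 4 z 1 * r)) * r⁻¹ = (r * c * r⁻¹) * X γ 4 z 1 := by group
      rw [this, hx414] at hkey
      exact mul_right_cancel hkey
  -- determine `c`
  have hx2ne3 : X γ 4 z 3 ≠ X γ 4 z 2 := by
    intro h
    have h2 := L.X_right_notMem (a := 2) (b := 3) (by norm_num)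
    apply h2
    rw [h]
    have := L.X_mem 2
    norm_num
    exact this
  have hx1ne2 : X γ 4 z 2 ≠ X γ 4 z 1 := by
    intro h
    have h2 := L.X_right_notMem (a := 1) (b := 2) (by norm_num)
    apply h2
    rw [h]
    have := L.X_mem 1
    norm_num
    exact this
  have hrx2 : r * X γ 4 z 2 * r⁻¹ = X γ 4 z 2 := by
    rw [hr2.eq, mul_assoc, mul_inv_cancel, mul_one]
  have hc : c = X γ 4 z 1 * X γ 4 z 2 := by
    have h := L.decomp_left (a := 1) (b := 2) (by norm_num) (by norm_num) hc12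
    norm_num at h
    rcases h with h | h
    · rcases L.mem_Y_single 2 h with h1 | h1
      · exact absurd h1 hcne
      · exfalso
        rw [hc'c, h1, e2, hrx2] at hcr
        exact hx2ne3 hcr
    · rcases L.mem_Y_single 2 h with h1 | h1
      · exfalso
        have hc1 : c = X γ 4 z 1 := by
          rw [← inv 1]; exact eq_inv_of_mul_eq_one_right h1
        rw [hc'c, hc1, e1] at hcr
        -- `x2 = r x1 r⁻¹`, so `x1 = r⁻¹ x2 r = x2`
        apply hx1ne2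
        have h3 : X γ 4 z 1 = r⁻¹ * (r * X γ 4 z 1 * r⁻¹) * r := by group
        rw [h3, ← hcr]
        have h4 : r⁻¹ * X γ 4 z 2 * r = r⁻¹ * (r * X γ 4 z 2 * r⁻¹) * r := by rw [hrx2]
        rw [h4]; group
      · calc c = (X γ 4 z 1 * X γ 4 z 1) * c := by rw [sq, one_mul]
          _ = X γ 4 z 1 * (X γ 4 z 1 * c) := by group
          _ = X γ 4 z 1 * X γ 4 z 2 := by rw [h1]
  have r1 : X γ 4 z 0 * X γ 4 z 3 * X γ 4 z 0 * X γ 4 z 3 = X γ 4 z 1 * X γ 4 z 2 := by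
    rw [← hcdef, hc]
  have r2 : X γ 4 z 1 * X γ 4 z 4 * X γ 4 z 1 * X γ 4 z 4 = X γ 4 z 2 * X γ 4 z 3 := by
    rw [← hc'def, hc'c, hc]
    calc γ * (X γ 4 z 1 * X γ 4 z 2) * γ⁻¹ = (γ * X γ 4 z 1 * γ⁻¹) * (γ * X γ 4 z 2 * γ⁻¹) := by
          group
      _ = X γ 4 z 2 * X γ 4 z 3 := by rw [e1, e2]
  obtain ⟨C1, C2, C3, C4⟩ := rel_four (sq 0) (sq 1) (sq 2) (sq 3) (sq 4)
    (cm 0 1 (by norm_num) (by norm_num)) (cm 0 2 (by norm_num) (by norm_num))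
    (cm 1 2 (by norm_num) (by norm_num)) (cm 1 3 (by norm_num) (by norm_num))
    (cm 2 3 (by norm_num) (by norm_num)) (cm 2 4 (by norm_num) (by norm_num))
    (cm 3 4 (by norm_num) (by norm_num)) r1 r2
  refine ⟨hQs, ?_, ?_, ?_, ?_⟩
  · intro q hq q' hq'
    exact (hQc q hq q' hq').eq
  · refine ⟨X γ 4 z 3, L.X_mem' (by norm_num) (by norm_num), ?_⟩
    intro h
    exact hN h
  · intro q hq
    have hcw : ∀ u ∈ Y P γ 4 1 3, Commute ((X γ 4 z 0 * X γ 4 z 4) ^ 3) u := by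
      apply L.commute_window (by norm_num)
      intro k hk1 hk2
      have hk : k = 1 ∨ k = 2 ∨ k = 3 := by omega
      rcases hk with rfl | rfl | rfl
      · exact cube_fix C1 C2 C3
      · exact C4.pow_left 3
      · exact cube_fix C2 C3 C1
    exact (hcw q hq).eq
  · refine ⟨X γ 4 z 1, hx1Q, ?_⟩
    intro h
    have h31 : X γ 4 z 3 = X γ 4 z 1 := by
      rw [← C1, h, mul_assoc, mul_inv_cancel, mul_one]
    have h2 := L.X_right_notMem (a := 1) (b := 3) (by norm_num)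
    apply h2
    rw [h31]
    have := L.X_mem' (a := 1) (b := 2) (k := 1) le_rfl (by norm_num)
    norm_num
    exact this

end cases

end Cfsg.Agent.Helper3.SimsW
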