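import Cfsg.Agent.Helper3.Sims.Win

/-!
# Sims' theorem (dihedral form): the chain `W 0 1 ⊋ W 0 2 ⊋ …` has index `2` until it reaches `1`
-/

set_option autoImplicit false
open Pointwise

namespace Cfsg.Agent.Helper3.SimsW

variable {G : Type*} [Group G]

/-! ### generalities on index two and conjugation -/

theorem card_conj_smul [Finite G] (a : G) (S : Subgroup G) :
    Nat.card (MulAut.conj a • S : Subgroup G) = Nat.card S :=
  (Nat.card_congr (Subgroup.equivSMul (MulAut.conj a) S).toEquiv).symm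

theorem card_mul_relIndex {A B : Subgroup G} (h : A ≤ B) :
    Nat.card A * A.relIndex B = Nat.card B := by
  have := Subgroup.relIndex_mul_relIndex (⊥ : Subgroup G) A B bot_le h
  rwa [Subgroup.relIndex_bot_left, Subgroup.relIndex_bot_left] at this

theorem relIndex_eq_two_of_card [Finite G] {A B : Subgroup G} (h : A ≤ B)
    (hc : Nat.card B = 2 * Nat.card A) : A.relIndex B = 2 := by
  have h1 := card_mul_relIndex h
  have hpos : 0 < Nat.card A := Nat.card_pos
  rw [hc, mul_comm 2] at h1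
  exact Nat.eq_of_mul_eq_mul_left hpos h1

theorem mul_mem_iff_of_relIndex_two {A B : Subgroup G} (hidx : A.relIndex B = 2) {a b : G}
    (ha : a ∈ B) (hb : b ∈ B) : a * b ∈ A ↔ (a ∈ A ↔ b ∈ A) := by
  have := Subgroup.mul_mem_iff_of_index_two (H := A.subgroupOf B) hidx (a := ⟨a, ha⟩) (b := ⟨b, hb⟩)
  simpa [Subgroup.mem_subgroupOf] using this

theorem conj_smul_eq_of_relIndex_two {A B : Subgroup G} (hAB : A ≤ B) (hidx : A.relIndex B = 2)
    {b : G} (hb : b ∈ B) : MulAut.conj b • A = A := by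
  have key : ∀ c ∈ B, MulAut.conj c • A ≤ A := by
    intro c hc x hx
    rw [mem_conj_smul] at hx
    -- x = c (c⁻¹ x c) c⁻¹
    have hx' : x = c * (c⁻¹ * x * c) * c⁻¹ := by group
    rw [hx']
    by_cases hcA : c ∈ A
    · exact A.mul_mem (A.mul_mem hcA hx) (A.inv_mem hcA)
    · have h1 : c * (c⁻¹ * x * c) ∉ A := by
        rw [mul_mem_iff_of_relIndex_two hidx hc (hAB hx)]
        tauto
      rw [mul_mem_iff_of_relIndex_two hidx (B.mul_mem hc (hAB hx)) (B.inv_mem hc)]
      have h2 : c⁻¹ ∉ A := fun h => hcA (by simpa using A.inv_mem h)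
      tauto
  apply le_antisymm (key b hb)
  intro x hx
  rw [mem_conj_smul]
  have := key b⁻¹ (B.inv_mem hb)
  apply this
  rw [mem_conj_smul]
  have e : (b⁻¹)⁻¹ * (b⁻¹ * x * b) * b⁻¹ = x := by group
  rw [e]; exact hx

theorem conj_mul_smul (a b : G) (S : Subgroup G) :
    MulAut.conj (a * b) • S = MulAut.conj a • (MulAut.conj b • S) := by
  rw [map_mul, mul_smul]

/-- the stabilizer of a subgroup under conjugation -/
theorem conj_zpow_smul_eq {γ : G} {N : Subgroup G} (h : MulAut.conj γ • N = N) (k : ℤ) :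
    MulAut.conj (γ ^ k) • N = N := by
  have hmem : γ ∈ (MulAction.stabilizer (MulAut G) N).comap (MulAut.conj : G →* MulAut G) := by
    rw [Subgroup.mem_comap, MulAction.mem_stabilizer_iff]
    exact h
  have := Subgroup.zpow_mem _ hmem k
  rw [Subgroup.mem_comap, MulAction.mem_stabilizer_iff] at this
  exact this

/-! ### the chain -/

section chain

variable [Finite G] (P : Subgroup G) (γ : G)

theorem card_W_shift (m i j : ℤ) : Nat.card (W P γ (i + m) (j + m)) = Nat.card (W P γ i j) := by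
  rw [← smul_W, card_conj_smul]

omit [Finite G] in
theorem W_succ_le (d : ℕ) : W P γ 0 ((d : ℤ) + 1) ≤ W P γ 0 d :=
  W_anti P γ le_rfl (by omega)

/-- the index of `W 0 (d+1)` in `W 0 d` is at most `2` -/
theorem card_W_le (hbase : Nat.card (W P γ 0 1) = 2 * Nat.card (W P γ 0 2)) :
    ∀ d : ℕ, 1 ≤ d → Nat.card (W P γ 0 d) ≤ 2 * Nat.card (W P γ 0 ((d : ℤ) + 1)) := by
  intro d hd
  induction d, hd using Nat.le_induction with
  | base => simpa using hbase.le
  | succ d hd ih =>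
    -- X = W 0 (d+1), Y = W 1 (d+2), Z = W 1 (d+1)
    have hXY : W P γ 0 ((d : ℤ) + 1) ⊓ W P γ 1 ((d : ℤ) + 1 + 1) = W P γ 0 ((d : ℤ) + 1 + 1) :=
      W_inf P γ (by omega) (by omega) (by omega)
    have hXZ : W P γ 0 ((d : ℤ) + 1) ≤ W P γ 1 ((d : ℤ) + 1) := W_anti P γ (by omega) le_rfl
    have hYZ : W P γ 1 ((d : ℤ) + 1 + 1) ≤ W P γ 1 ((d : ℤ) + 1) := W_anti P γ le_rfl (by omega)
    have hZ : Nat.card (W P γ 1 ((d : ℤ) + 1)) = Nat.card (W P γ 0 d) := by
      have := card_W_shift P γ 1 0 d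
      simpa using this
    have hY : Nat.card (W P γ 1 ((d : ℤ) + 1 + 1)) = Nat.card (W P γ 0 ((d : ℤ) + 1)) := by
      have := card_W_shift P γ 1 0 ((d : ℤ) + 1)
      simpa using this
    have hrel : (W P γ 1 ((d : ℤ) + 1 + 1)).relIndex (W P γ 1 ((d : ℤ) + 1)) ≤ 2 := by
      have h1 := card_mul_relIndex hYZ
      rw [hY, hZ] at h1
      have hpos : 0 < Nat.card (W P γ 0 ((d : ℤ) + 1)) := Nat.card_pos
      have : Nat.card (W P γ 0 ((d : ℤ) + 1)) *
          (W P γ 1 ((d : ℤ) + 1 + 1)).relIndex (W P γ 1 ((d : ℤ) + 1)) ≤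
          Nat.card (W P γ 0 ((d : ℤ) + 1)) * 2 := by
        rw [h1, mul_comm]; exact ih
      exact Nat.le_of_mul_le_mul_left this hpos
    have hrel2 : (W P γ 0 ((d : ℤ) + 1 + 1)).relIndex (W P γ 0 ((d : ℤ) + 1)) ≤ 2 := by
      rw [← hXY, inf_comm, Subgroup.inf_relIndex_right]
      refine le_trans (Subgroup.relIndex_le_of_le_right hXZ ?_) hrel
      intro h0
      have h1 := card_mul_relIndex hYZ
      rw [h0, mul_zero] at h1
      have hpos : 0 < Nat.card (W P γ 1 ((d : ℤ) + 1)) := Nat.card_pos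
      omega
    have h3 := card_mul_relIndex (W_succ_le P γ (d + 1))
    push_cast at h3 ⊢
    calc Nat.card (W P γ 0 ((d : ℤ) + 1))
        = Nat.card (W P γ 0 ((d : ℤ) + 1 + 1)) *
          (W P γ 0 ((d : ℤ) + 1 + 1)).relIndex (W P γ 0 ((d : ℤ) + 1)) := h3.symm
      _ ≤ Nat.card (W P γ 0 ((d : ℤ) + 1 + 1)) * 2 := Nat.mul_le_mul_left _ hrel2
      _ = 2 * Nat.card (W P γ 0 ((d : ℤ) + 1 + 1)) := mul_comm _ _

/-- dichotomy: the next term has the same order or half of it -/
theorem card_W_dichotomy (hbase : Nat.card (W P γ 0 1) = 2 * Nat.card (W P γ 0 2)) (d : ℕ)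
    (hd : 1 ≤ d) : Nat.card (W P γ 0 ((d : ℤ) + 1)) = Nat.card (W P γ 0 d) ∨
      Nat.card (W P γ 0 d) = 2 * Nat.card (W P γ 0 ((d : ℤ) + 1)) := by
  have h1 := card_W_le P γ hbase d hd
  have h2 := card_mul_relIndex (W_succ_le P γ d)
  have hpos : 0 < Nat.card (W P γ 0 ((d : ℤ) + 1)) := Nat.card_pos
  have hr : (W P γ 0 ((d : ℤ) + 1)).relIndex (W P γ 0 d) ≤ 2 := by
    have : Nat.card (W P γ 0 ((d : ℤ) + 1)) * (W P γ 0 ((d : ℤ) + 1)).relIndex (W P γ 0 d) ≤
        Nat.card (W P γ 0 ((d : ℤ) + 1)) * 2 := by rw [h2, mul_comm]; exact h1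
    exact Nat.le_of_mul_le_mul_left this hpos
  have hr0 : (W P γ 0 ((d : ℤ) + 1)).relIndex (W P γ 0 d) ≠ 0 := by
    intro h0
    rw [h0, mul_zero] at h2
    have : 0 < Nat.card (W P γ 0 d) := Nat.card_pos
    omega
  interval_cases hrr : (W P γ 0 ((d : ℤ) + 1)).relIndex (W P γ 0 d)
  · exact absurd rfl hr0
  · left; rw [← h2, mul_one]
  · right; rw [← h2, mul_comm]

/-- the stalling lemma: the first repeated term of the chain is trivial -/
theorem stall_eq_bot (hbase : Nat.card (W P γ 0 1) = 2 * Nat.card (W P γ 0 2))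
    (hNS : ∀ N : Subgroup G, N ≤ P → (∀ h ∈ P, MulAut.conj h • N = N) →
      (∀ h ∈ MulAut.conj γ • P, MulAut.conj h • N = N) → MulAut.conj γ • N = N → N = ⊥)
    (m : ℕ) (hm1 : 1 ≤ m)
    (hmin : ∀ d : ℕ, 1 ≤ d → d < m →
      Nat.card (W P γ 0 d) = 2 * Nat.card (W P γ 0 ((d : ℤ) + 1)))
    (hm : Nat.card (W P γ 0 ((m : ℤ) + 1)) = Nat.card (W P γ 0 m)) : W P γ 0 m = ⊥ := by
  have hm2 : 2 ≤ m := by
    by_contra hlt
    have h1 : m = 1 := by omega
    subst h1
    have hpos : 0 < Nat.card (W P γ 0 2) := Nat.card_pos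
    have e1 : ((1 : ℕ) : ℤ) + 1 = 2 := by norm_num
    have e2 : ((1 : ℕ) : ℤ) = 1 := by norm_num
    rw [e1, e2] at hm
    omega
  obtain ⟨N, hNdef⟩ : ∃ N, N = W P γ 0 m := ⟨_, rfl⟩
  have hN1 : W P γ 0 ((m : ℤ) + 1) = N := by
    rw [hNdef]
    exact Subgroup.eq_of_le_of_card_ge (W_succ_le P γ m) hm.ge
  have hγ : MulAut.conj γ • N = N := by
    have hle : N ≤ MulAut.conj γ • N := by
      rw [hNdef, smul_W_one, ← hNdef, ← hN1]
      exact W_anti P γ (by omega) (by omega)
    exact (Subgroup.eq_of_le_of_card_ge hle (by rw [card_conj_smul])).symm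
  have hshift : ∀ k : ℤ, W P γ k (k + m) = N := by
    intro k
    have h1 := smul_W P γ k 0 m
    rw [← hNdef, conj_zpow_smul_eq hγ k] at h1
    rw [h1, zero_add, add_comm]
  have hNle : ∀ i j : ℤ, N ≤ W P γ i j := by
    intro i j x hx
    rw [mem_W]
    intro k _ _
    have : x ∈ W P γ k (k + m) := by rw [hshift k]; exact hx
    exact W_le_Ek P γ le_rfl (by omega) this
  have hlong : ∀ i j : ℤ, i + m ≤ j → W P γ i j = N := by
    intro i j hij
    apply le_antisymm _ (hNle i j)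
    rw [← hshift i]
    exact W_anti P γ le_rfl hij
  have key : ∀ j : ℕ, j + 1 ≤ m → ∀ h ∈ W P γ 0 ((m - j : ℕ) : ℤ), MulAut.conj h • N = N := by
    intro j
    induction j with
    | zero =>
      intro _ h hh
      rw [Nat.sub_zero, ← hNdef] at hh
      exact Subgroup.conj_smul_eq_self_of_mem hh
    | succ j ih =>
      intro hj h hh
      have ih' := ih (by omega)
      obtain ⟨e, he⟩ : ∃ e : ℕ, e = m - (j + 1) := ⟨_, rfl⟩
      have he1 : 1 ≤ e := by omega
      have hee : m - j = e + 1 := by omega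
      rw [← he] at hh
      rw [hee] at ih'
      have ecast : ((e + 1 : ℕ) : ℤ) = (e : ℤ) + 1 := by push_cast; ring
      rw [ecast] at ih'
      -- the subgroup U
      obtain ⟨U, hUdef⟩ : ∃ U, U = W P γ ((e : ℤ) + 1 - m) e := ⟨_, rfl⟩
      have hUN : N ≤ U := by rw [hUdef]; exact hNle _ _
      have hUcard : Nat.card U = 2 * Nat.card N := by
        have h1 := card_W_shift P γ ((e : ℤ) + 1 - m) 0 ((m - 1 : ℕ) : ℤ)
        have e1 : (0 : ℤ) + ((e : ℤ) + 1 - m) = (e : ℤ) + 1 - m := by ring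
        have e2 : ((m - 1 : ℕ) : ℤ) + ((e : ℤ) + 1 - m) = e := by
          have : ((m - 1 : ℕ) : ℤ) = (m : ℤ) - 1 := by omega
          rw [this]; ring
        rw [e1, e2, ← hUdef] at h1
        rw [h1, hmin (m - 1) (by omega) (by omega)]
        have e3 : ((m - 1 : ℕ) : ℤ) + 1 = m := by omega
        rw [e3, ← hNdef]
      have hUle : U ≤ W P γ 0 e := by rw [hUdef]; exact W_anti P γ (by omega) le_rfl
      have hUinf : U ⊓ W P γ 0 ((e : ℤ) + 1) = N := by
        rw [hUdef, W_inf P γ (by omega) (by omega) (by omega)]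
        exact hlong _ _ (by omega)
      have hex : ∃ h₀ ∈ U, h₀ ∉ W P γ 0 ((e : ℤ) + 1) := by
        by_contra hcon
        push Not at hcon
        have hUle' : U ≤ W P γ 0 ((e : ℤ) + 1) := hcon
        have : U = N := by rw [← hUinf]; exact (inf_eq_left.2 hUle').symm
        rw [this] at hUcard
        have hpos : 0 < Nat.card N := Nat.card_pos
        omega
      obtain ⟨h₀, hh₀U, hh₀⟩ := hex
      have hh₀N : MulAut.conj h₀ • N = N :=
        conj_smul_eq_of_relIndex_two hUN (relIndex_eq_two_of_card hUN hUcard) hh₀U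
      have hidx : (W P γ 0 ((e : ℤ) + 1)).relIndex (W P γ 0 e) = 2 :=
        relIndex_eq_two_of_card (W_succ_le P γ e) (hmin e he1 (by omega))
      by_cases hcase : h ∈ W P γ 0 ((e : ℤ) + 1)
      · exact ih' h hcase
      · have h1 : h₀⁻¹ * h ∈ W P γ 0 ((e : ℤ) + 1) := by
          rw [mul_mem_iff_of_relIndex_two hidx ((W P γ 0 e).inv_mem (hUle hh₀U)) hh]
          have : h₀⁻¹ ∉ W P γ 0 ((e : ℤ) + 1) := fun hc => hh₀ (by simpa using Subgroup.inv_mem _ hc)
          tauto
        have h2 : h = h₀ * (h₀⁻¹ * h) := by group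
        rw [h2, conj_mul_smul, ih' _ h1, hh₀N]
  have hP : ∀ h ∈ P, MulAut.conj h • N = N := by
    intro h hh
    have := key (m - 1) (by omega) h
    have e1 : ((m - (m - 1) : ℕ) : ℤ) = 0 + 1 := by omega
    rw [e1, W_single, Ek_zero] at this
    exact this hh
  have hγinv : MulAut.conj γ⁻¹ • N = N := by
    have := conj_zpow_smul_eq hγ (-1)
    simpa using this
  have hE : ∀ h ∈ MulAut.conj γ • P, MulAut.conj h • N = N := by
    intro h hh
    rw [mem_conj_smul] at hh
    have h2 : h = γ * (γ⁻¹ * h * γ) * γ⁻¹ := by group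
    rw [h2, conj_mul_smul, conj_mul_smul, hγinv, hP _ hh, hγ]
  have hNP : N ≤ P := by
    have h1 : W P γ 0 m ≤ Ek P γ 0 := W_le_Ek P γ le_rfl (by omega)
    rw [Ek_zero] at h1
    rw [hNdef]; exact h1
  rw [← hNdef]
  exact hNS N hNP hP hE hγ

/-- the chain has index two until it reaches the trivial group -/
theorem card_W_eq (hbase : Nat.card (W P γ 0 1) = 2 * Nat.card (W P γ 0 2))
    (hNS : ∀ N : Subgroup G, N ≤ P → (∀ h ∈ P, MulAut.conj h • N = N) →
      (∀ h ∈ MulAut.conj γ • P, MulAut.conj h • N = N) → MulAut.conj γ • N = N → N = ⊥)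
    (t : ℕ) (ht : Nat.card (W P γ 0 1) = 2 ^ t) :
    ∀ d : ℕ, 1 ≤ d → d ≤ t + 1 → Nat.card (W P γ 0 d) = 2 ^ (t + 1 - d) ∧
      ∀ d' : ℕ, 1 ≤ d' → d' < d →
        Nat.card (W P γ 0 d') = 2 * Nat.card (W P γ 0 ((d' : ℤ) + 1)) := by
  intro d hd
  induction d, hd using Nat.le_induction with
  | base =>
    intro _
    refine ⟨by simpa using ht, ?_⟩
    intro d' h1 h2
    omega
  | succ d hd ih =>
    intro hdt
    obtain ⟨ih1, ih2⟩ := ih (by omega)
    rcases card_W_dichotomy P γ hbase d hd with hst | hhalf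
    · exfalso
      have hbot := stall_eq_bot P γ hbase hNS d hd ih2 hst
      rw [hbot, Subgroup.card_bot] at ih1
      have : t + 1 - d = 0 := by
        by_contra hne
        have : 2 ≤ 2 ^ (t + 1 - d) := by
          calc 2 = 2 ^ 1 := by norm_num
            _ ≤ 2 ^ (t + 1 - d) := Nat.pow_le_pow_right (by norm_num) (by omega)
        omega
      omega
    · constructor
      · have e1 : ((d + 1 : ℕ) : ℤ) = (d : ℤ) + 1 := by push_cast; ring
        rw [e1]
        have e2 : t + 1 - d = (t + 1 - (d + 1)) + 1 := by omega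
        rw [ih1, e2, pow_succ] at hhalf
        omega
      · intro d' h1 h2
        by_cases hdd : d' < d
        · exact ih2 d' h1 hdd
        · have : d' = d := by omega
          rw [this]; exact hhalf

end chain

end Cfsg.Agent.Helper3.SimsW
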