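import Cfsg.Agent.Helper3.Sims.Chain

/-!
# Sims' theorem (dihedral form): the involutions `X k` and the windows `Y a b`
-/

set_option autoImplicit false
set_option linter.unusedSectionVars false
open Pointwise

namespace Cfsg.Agent.Helper3.SimsW

variable {G : Type*} [Group G]

/-- the hypotheses on the line: all windows have the expected order -/
structure Line (P : Subgroup G) (γ : G) (t : ℕ) (z : G) : Prop where
  card : ∀ (i : ℤ) (d : ℕ), 1 ≤ d → d ≤ t + 1 → Nat.card (W P γ i (i + d)) = 2 ^ (t + 1 - d)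
  one_le : 1 ≤ t
  z_mem : z ∈ W P γ 0 t
  z_ne : z ≠ 1

/-- the involutions -/
def X (γ : G) (t : ℕ) (z : G) (k : ℤ) : G := γ ^ (k - t + 1) * z * (γ ^ (k - t + 1))⁻¹

/-- the windows -/
def Y (P : Subgroup G) (γ : G) (t : ℕ) (a b : ℤ) : Subgroup G := W P γ (b - t + 1) (a + 1)

theorem X_shift (γ : G) (t : ℕ) (z : G) (k m : ℤ) :
    γ ^ m * X γ t z k * (γ ^ m)⁻¹ = X γ t z (k + m) := by
  unfold X
  have e : k + m - t + 1 = m + (k - t + 1) := by ring
  rw [e, zpow_add]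
  group

theorem X_succ (γ : G) (t : ℕ) (z : G) (k : ℤ) :
    γ * X γ t z k * γ⁻¹ = X γ t z (k + 1) := by
  have := X_shift γ t z k 1
  simpa using this

theorem X_pred (γ : G) (t : ℕ) (z : G) (k : ℤ) :
    γ⁻¹ * X γ t z k * γ = X γ t z (k - 1) := by
  have := X_shift γ t z k (-1)
  simpa [sub_eq_add_neg] using this

theorem smul_Y (P : Subgroup G) (γ : G) (t : ℕ) (m a b : ℤ) :
    MulAut.conj (γ ^ m) • Y P γ t a b = Y P γ t (a + m) (b + m) := by
  unfold Y
  rw [smul_W]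
  congr 1 <;> ring

theorem smul_Y_one (P : Subgroup G) (γ : G) (t : ℕ) (a b : ℤ) :
    MulAut.conj γ • Y P γ t a b = Y P γ t (a + 1) (b + 1) := by
  have := smul_Y P γ t 1 a b
  simpa using this

theorem Y_mono (P : Subgroup G) (γ : G) (t : ℕ) {a b a' b' : ℤ} (ha : a' ≤ a) (hb : b ≤ b') :
    Y P γ t a b ≤ Y P γ t a' b' := by
  unfold Y
  exact W_anti P γ (by omega) (by omega)

theorem Y_inf (P : Subgroup G) (γ : G) (t : ℕ) {a b a' b' : ℤ} (ha : a ≤ a') (hb : b ≤ b')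
    (h : b' ≤ a + t) : Y P γ t a b ⊓ Y P γ t a' b' = Y P γ t a' b := by
  unfold Y
  exact W_inf P γ (by omega) (by omega) (by omega)

section line

variable [Finite G] {P : Subgroup G} {γ : G} {t : ℕ} {z : G}

theorem Line.card_Y (L : Line P γ t z) {a b : ℤ} (h1 : a ≤ b + 1) (h2 : b + 1 - a ≤ t) :
    Nat.card (Y P γ t a b) = 2 ^ (b + 1 - a).toNat := by
  unfold Y
  have hd : a + 1 = (b - t + 1) + ((t - (b + 1 - a).toNat : ℕ) + 1 : ℕ) := by
    have : ((b + 1 - a).toNat : ℤ) = b + 1 - a := Int.toNat_of_nonneg (by omega)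
    push_cast
    omega
  rw [hd, L.card _ _ (by omega) (by omega)]
  congr 1
  omega

theorem Line.Y_eq_bot (L : Line P γ t z) {a b : ℤ} (h : b + 1 ≤ a) : Y P γ t a b = ⊥ := by
  have h1 : Y P γ t a b ≤ Y P γ t (b + 1) b := Y_mono P γ t h le_rfl
  have h2 : Nat.card (Y P γ t (b + 1) b) = 1 := by
    rw [L.card_Y (by omega) (by omega)]
    simp
  rw [Subgroup.card_eq_one] at h2
  rw [h2] at h1
  exact le_bot_iff.1 h1

theorem Line.X_mem (L : Line P γ t z) (k : ℤ) : X γ t z k ∈ Y P γ t k k := by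
  unfold Y X
  have h1 := smul_W P γ (k - t + 1) 0 t
  have e1 : (0 : ℤ) + (k - t + 1) = k - t + 1 := by ring
  have e2 : (t : ℤ) + (k - t + 1) = k + 1 := by ring
  rw [e1, e2] at h1
  rw [← h1, mem_conj_smul]
  have : (γ ^ (k - t + 1))⁻¹ * (γ ^ (k - t + 1) * z * (γ ^ (k - t + 1))⁻¹) * γ ^ (k - t + 1) = z := by
    group
  rw [this]
  exact L.z_mem

theorem Line.X_mem' (L : Line P γ t z) {a b k : ℤ} (h1 : a ≤ k) (h2 : k ≤ b) :
    X γ t z k ∈ Y P γ t a b := Y_mono P γ t h1 h2 (L.X_mem k)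

theorem Line.X_ne_one (L : Line P γ t z) (k : ℤ) : X γ t z k ≠ 1 := by
  intro h
  unfold X at h
  apply L.z_ne
  have : z = (γ ^ (k - t + 1))⁻¹ * (γ ^ (k - t + 1) * z * (γ ^ (k - t + 1))⁻¹) * γ ^ (k - t + 1) := by
    group
  rw [this, h]
  group

theorem Line.X_sq (L : Line P γ t z) (k : ℤ) : X γ t z k * X γ t z k = 1 := by
  have hc : Nat.card (Y P γ t k k) = 2 := by
    rw [L.card_Y (by omega) (by have := L.one_le; omega)]
    have : (k + 1 - k).toNat = 1 := by simp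
    rw [this]; norm_num
  have hm := L.X_mem k
  have h2 : (⟨X γ t z k, hm⟩ : Y P γ t k k) ^ 2 = 1 := by
    rw [← hc]; exact pow_card_eq_one'
  have h3 := congrArg Subtype.val h2
  simpa [pow_two] using h3

/-- `X a ∉ Y (a+1) b` -/
theorem Line.X_left_notMem (L : Line P γ t z) {a b : ℤ} (h2 : b + 1 - a ≤ t) :
    X γ t z a ∉ Y P γ t (a + 1) b := by
  intro hmem
  have h1 : X γ t z a ∈ Y P γ t a a ⊓ Y P γ t (a + 1) b := ⟨L.X_mem a, hmem⟩
  by_cases hab : a ≤ b
  · rw [Y_inf P γ t (by omega) hab (by omega), L.Y_eq_bot (by omega)] at h1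
    exact L.X_ne_one a (Subgroup.mem_bot.1 h1)
  · rw [L.Y_eq_bot (by omega)] at hmem
    exact L.X_ne_one a (Subgroup.mem_bot.1 hmem)

/-- `X b ∉ Y a (b-1)` -/
theorem Line.X_right_notMem (L : Line P γ t z) {a b : ℤ} (h2 : b + 1 - a ≤ t) :
    X γ t z b ∉ Y P γ t a (b - 1) := by
  intro hmem
  by_cases hab : a ≤ b
  · have h1 : X γ t z b ∈ Y P γ t a (b - 1) ⊓ Y P γ t b b := ⟨hmem, L.X_mem b⟩
    rw [Y_inf P γ t hab (by omega) (by omega), L.Y_eq_bot (by omega)] at h1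
    exact L.X_ne_one b (Subgroup.mem_bot.1 h1)
  · rw [L.Y_eq_bot (by omega)] at hmem
    exact L.X_ne_one b (Subgroup.mem_bot.1 hmem)

theorem Line.relIndex_left (L : Line P γ t z) {a b : ℤ} (h1 : a ≤ b) (h2 : b + 1 - a ≤ t) :
    (Y P γ t (a + 1) b).relIndex (Y P γ t a b) = 2 := by
  apply relIndex_eq_two_of_card (Y_mono P γ t (by omega) le_rfl)
  rw [L.card_Y (by omega) h2, L.card_Y (by omega) (by omega), ← pow_succ']
  congr 1
  omega

theorem Line.relIndex_right (L : Line P γ t z) {a b : ℤ} (h1 : a ≤ b) (h2 : b + 1 - a ≤ t) :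
    (Y P γ t a (b - 1)).relIndex (Y P γ t a b) = 2 := by
  apply relIndex_eq_two_of_card (Y_mono P γ t le_rfl (by omega))
  rw [L.card_Y (by omega) h2, L.card_Y (by omega) (by omega), ← pow_succ']
  congr 1
  omega

/-- left decomposition -/
theorem Line.decomp_left (L : Line P γ t z) {a b : ℤ} (h1 : a ≤ b) (h2 : b + 1 - a ≤ t) {w : G}
    (hw : w ∈ Y P γ t a b) : w ∈ Y P γ t (a + 1) b ∨ X γ t z a * w ∈ Y P γ t (a + 1) b := by
  by_cases hcase : w ∈ Y P γ t (a + 1) b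
  · exact Or.inl hcase
  · right
    rw [mul_mem_iff_of_relIndex_two (L.relIndex_left h1 h2) (L.X_mem' le_rfl h1) hw]
    have := L.X_left_notMem (a := a) (b := b) h2
    tauto

/-- right decomposition -/
theorem Line.decomp_right (L : Line P γ t z) {a b : ℤ} (h1 : a ≤ b) (h2 : b + 1 - a ≤ t) {w : G}
    (hw : w ∈ Y P γ t a b) : w ∈ Y P γ t a (b - 1) ∨ w * X γ t z b ∈ Y P γ t a (b - 1) := by
  by_cases hcase : w ∈ Y P γ t a (b - 1)
  · exact Or.inl hcase
  · right
    rw [mul_mem_iff_of_relIndex_two (L.relIndex_right h1 h2) hw (L.X_mem' h1 le_rfl)]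
    have := L.X_right_notMem (a := a) (b := b) h2
    tauto

/-- induction principle: a window is generated by its involutions -/
theorem Line.Y_induction (L : Line P γ t z) {a b : ℤ} (h2 : b + 1 - a ≤ t) (p : G → Prop)
    (hone : p 1) (hmul : ∀ u v, p u → p v → p (u * v))
    (hX : ∀ k, a ≤ k → k ≤ b → p (X γ t z k)) : ∀ w ∈ Y P γ t a b, p w := by
  obtain ⟨n, hn⟩ : ∃ n : ℕ, (n : ℤ) = max (b + 1 - a) 0 := ⟨(max (b + 1 - a) 0).toNat, by simp⟩
  induction n generalizing b with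
  | zero =>
    intro w hw
    rw [L.Y_eq_bot (by omega)] at hw
    rw [Subgroup.mem_bot.1 hw]; exact hone
  | succ n ih =>
    intro w hw
    have hab : a ≤ b := by push_cast at hn; omega
    have ih' := ih (b := b - 1) (by omega) (fun k hk1 hk2 => hX k hk1 (by omega))
      (by push_cast at hn; omega)
    rcases L.decomp_right hab h2 hw with h | h
    · exact ih' w h
    · have e : w = (w * X γ t z b) * X γ t z b := by
        rw [mul_assoc, L.X_sq, mul_one]
      rw [e]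
      exact hmul _ _ (ih' _ h) (hX b hab le_rfl)

end line

end Cfsg.Agent.Helper3.SimsW
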