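import Mathlib

/-!
# Sims' theorem (dihedral form): windows along a line

`Ek P γ k = γ^k P γ^{-k}`, `W P γ i j = ⋂_{i ≤ k < j} Ek P γ k`.
-/

set_option autoImplicit false
open Pointwise

namespace Cfsg.Agent.Helper3.SimsW

variable {G : Type*} [Group G]

/-- the `k`-th edge group -/
def Ek (P : Subgroup G) (γ : G) (k : ℤ) : Subgroup G := MulAut.conj (γ ^ k) • P

theorem mem_conj_smul {S : Subgroup G} {a x : G} :
    x ∈ MulAut.conj a • S ↔ a⁻¹ * x * a ∈ S := by
  rw [Subgroup.mem_pointwise_smul_iff_inv_smul_mem]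
  simp [MulAut.smul_def]

theorem mem_Ek {P : Subgroup G} {γ : G} {k : ℤ} {x : G} :
    x ∈ Ek P γ k ↔ (γ ^ k)⁻¹ * x * γ ^ k ∈ P := mem_conj_smul

/-- intersection of the edge groups with index in `[i, j)` -/
def W (P : Subgroup G) (γ : G) (i j : ℤ) : Subgroup G := ⨅ k ∈ Set.Ico i j, Ek P γ k

theorem mem_W {P : Subgroup G} {γ : G} {i j : ℤ} {x : G} :
    x ∈ W P γ i j ↔ ∀ k, i ≤ k → k < j → x ∈ Ek P γ k := by
  unfold W
  simp only [Subgroup.mem_iInf, Set.mem_Ico, and_imp]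

theorem Ek_zero (P : Subgroup G) (γ : G) : Ek P γ 0 = P := by
  unfold Ek; simp

theorem smul_Ek (P : Subgroup G) (γ : G) (m k : ℤ) :
    MulAut.conj (γ ^ m) • Ek P γ k = Ek P γ (k + m) := by
  ext x
  rw [mem_conj_smul, mem_Ek, mem_Ek]
  have : (γ ^ k)⁻¹ * ((γ ^ m)⁻¹ * x * γ ^ m) * γ ^ k = (γ ^ (k + m))⁻¹ * x * γ ^ (k + m) := by
    have hc : γ ^ (k + m) = γ ^ m * γ ^ k := by rw [← zpow_add, add_comm]
    rw [hc, mul_inv_rev]
    group
  rw [this]

theorem smul_W (P : Subgroup G) (γ : G) (m i j : ℤ) :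
    MulAut.conj (γ ^ m) • W P γ i j = W P γ (i + m) (j + m) := by
  ext x
  rw [mem_conj_smul, mem_W, mem_W]
  constructor
  · intro h k hk1 hk2
    have := h (k - m) (by omega) (by omega)
    rw [← mem_conj_smul, smul_Ek] at this
    simpa using this
  · intro h k hk1 hk2
    have := h (k + m) (by omega) (by omega)
    rw [← smul_Ek, mem_conj_smul] at this
    exact this

theorem smul_W_one (P : Subgroup G) (γ : G) (i j : ℤ) :
    MulAut.conj γ • W P γ i j = W P γ (i + 1) (j + 1) := by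
  have := smul_W P γ 1 i j
  simpa using this

theorem W_anti (P : Subgroup G) (γ : G) {i j i' j' : ℤ} (hi : i' ≤ i) (hj : j ≤ j') :
    W P γ i' j' ≤ W P γ i j := by
  intro x hx
  rw [mem_W] at hx ⊢
  intro k hk1 hk2
  exact hx k (by omega) (by omega)

theorem W_inf (P : Subgroup G) (γ : G) {i j i' j' : ℤ} (h1 : i ≤ i') (h2 : i' ≤ j) (h3 : j ≤ j') :
    W P γ i j ⊓ W P γ i' j' = W P γ i j' := by
  ext x
  rw [Subgroup.mem_inf, mem_W, mem_W, mem_W]
  constructor
  · rintro ⟨ha, hb⟩ k hk1 hk2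
    by_cases hk : k < j
    · exact ha k hk1 hk
    · exact hb k (by omega) hk2
  · intro h
    exact ⟨fun k hk1 hk2 => h k hk1 (by omega), fun k hk1 hk2 => h k (by omega) hk2⟩

theorem W_single (P : Subgroup G) (γ : G) (i : ℤ) : W P γ i (i + 1) = Ek P γ i := by
  ext x
  rw [mem_W]
  constructor
  · intro h; exact h i le_rfl (by omega)
  · intro h k hk1 hk2
    have : k = i := by omega
    rw [this]; exact h

theorem W_le_Ek (P : Subgroup G) (γ : G) {i j k : ℤ} (h1 : i ≤ k) (h2 : k < j) :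
    W P γ i j ≤ Ek P γ k := fun _ hx => (mem_W.1 hx) k h1 h2

end Cfsg.Agent.Helper3.SimsW
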